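import Cfsg.Agent.Lib.GorensteinWalter.ModelPSL
import Cfsg.Agent.Lib.Linear.Simple
import Cfsg.Agent.Lib.Linear.Order

/-!
# `PSL(2,q)`, `q` odd, around a four-group

`Quat` is a pair of anticommuting square roots of `-1` in `SL(2,q)`; its image is a four-group.
Owner: helper66.
-/

set_option autoImplicit false

namespace Cfsg.Agent.Lib.Walter66

open Matrix Cfsg.Agent.Lib.AutPSL Cfsg.Agent.Lib.GorensteinWalter.Model
open scoped MatrixGroups

variable {F : Type} [Field F]

local notation "SL2" => Matrix.SpecialLinearGroup (Fin 2) F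
local notation "PSL2" => Matrix.ProjectiveSpecialLinearGroup (Fin 2) F
local notation "GL2" => GL (Fin 2) F
local notation "M2" => Matrix (Fin 2) (Fin 2) F

/-- Two anticommuting square roots of `-1`, and an element cycling them and their product. -/
structure Quat (i j w : SL2) : Prop where
  sqi : (i : M2) * i = -1
  sqj : (j : M2) * j = -1
  anti : (j : M2) * i = -((i : M2) * j)
  wj : (w : M2) * j = (i : M2) * w
  wi : (w : M2) * i = ((i : M2) * j) * w

theorem exists_quat [Fintype F] (h2 : (2 : F) ≠ 0) : ∃ i j w : SL2, Quat i j w := by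
  obtain ⟨p, hp⟩ := CharP.exists F
  haveI : Fact p.Prime := ⟨CharP.char_is_prime F p⟩
  obtain ⟨a₀, b₀, hab⟩ := ZMod.sq_add_sq p (-1)
  let φ : ZMod p →+* F := ZMod.castHom dvd_rfl F
  set a := φ a₀
  set b := φ b₀
  have h : a * a + b * b = -1 := by
    have := congrArg φ hab
    simpa [sq] using this
  set I : M2 := !![0, 1; -1, 0] with hI
  set J : M2 := !![a, b; b, -a] with hJ
  have hII : I * I = -1 := by
    ext k l; fin_cases k <;> fin_cases l <;> simp [I]
  have hJJ : J * J = -1 := by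
    ext k l; fin_cases k <;> fin_cases l <;> simp [J, Matrix.mul_apply, Fin.sum_univ_two] <;>
      first | linear_combination h | ring
  have hJI : J * I = -(I * J) := by
    ext k l; fin_cases k <;> fin_cases l <;> simp [I, J]
  set W : M2 := (2⁻¹ : F) • (-1 + I + J + I * J) with hW
  have hWd : W.det = 1 := by
    rw [hW, Matrix.det_smul, Matrix.det_fin_two, Fintype.card_fin]
    simp [I, J]
    field_simp
    linear_combination (-2 : F) * h
  have hIdet : I.det = 1 := by simp [I, Matrix.det_fin_two]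
  have hJdet : J.det = 1 := by simp [J, Matrix.det_fin_two]; linear_combination -h
  refine ⟨⟨I, hIdet⟩, ⟨J, hJdet⟩, ⟨W, hWd⟩, hII, hJJ, hJI, ?_, ?_⟩
  · show W * J = I * W
    rw [hW, Matrix.smul_mul, Matrix.mul_smul]
    congr 1
    simp only [add_mul, mul_add, neg_mul, mul_neg, one_mul, mul_one, ← mul_assoc, hII, hJJ]
    simp only [mul_assoc, hII, hJJ, mul_neg, mul_one, neg_mul, one_mul]
    abel
  · show W * I = I * J * W
    rw [hW, Matrix.smul_mul, Matrix.mul_smul]
    congr 1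
    simp only [add_mul, mul_add, neg_mul, mul_neg, one_mul, mul_one, mul_assoc, hII, hJI, hJJ]
    simp only [← mul_assoc, hII, hJJ, hJI, neg_mul, one_mul, mul_one, mul_neg]
    abel

variable {i j w : Matrix.SpecialLinearGroup (Fin 2) F}

theorem mk_eq_of_neg {s s' : SL2} (h : (s' : M2) = -(s : M2)) :
    (QuotientGroup.mk s : PSL2) = QuotientGroup.mk s' :=
  (mk_eq_mk_iff s s').2 ⟨-1, by rw [h, neg_one_smul]⟩

theorem mk_eq_cases {s s' : SL2} (h : (QuotientGroup.mk s : PSL2) = QuotientGroup.mk s') :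
    (s' : M2) = s ∨ (s' : M2) = -(s : M2) := by
  obtain ⟨c, hc⟩ := (mk_eq_mk_iff s s').1 h
  have hd := congrArg Matrix.det hc
  rw [Matrix.det_smul, s.det_coe, s'.det_coe, Fintype.card_fin, mul_one] at hd
  rcases sq_eq_one_iff.1 hd.symm with rfl | rfl
  · exact Or.inl (by rw [hc, one_smul])
  · exact Or.inr (by rw [hc, neg_one_smul])

theorem ne_scalar_of_sq (h2 : (2 : F) ≠ 0) {s t : M2} (ht : IsUnit t) (hs : IsUnit s)
    (h : t * s = -(s * t)) (d : F) : s ≠ d • 1 := by
  rintro rfl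
  rw [Matrix.mul_smul, Matrix.smul_mul, mul_one, one_mul] at h
  have h3 : (2 : F) • (d • t) = 0 := by rw [two_smul]; exact eq_neg_iff_add_eq_zero.1 h
  have hd : d • t = 0 := (smul_eq_zero.1 h3).resolve_left h2
  have : d • (1 : M2) = 0 := by
    obtain ⟨u, rfl⟩ := ht
    have := congrArg (· * ((u⁻¹ : M2ˣ) : M2)) hd
    simpa using this
  rw [this] at hs
  exact not_isUnit_zero hs

/-- Sign bookkeeping for a quaternion pair. -/
theorem twist {R : Type*} [Ring R] {g I J : R} (hJI : J * I = -(I * J)) :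
    (g * I = I * g → g * J = -(J * g) → g * I * I = I * (g * I) ∧ g * I * J = J * (g * I)) ∧
    (g * I = -(I * g) → g * J = J * g → g * J * I = I * (g * J) ∧ g * J * J = J * (g * J)) ∧
    (g * I = -(I * g) → g * J = -(J * g) →
      g * (I * J) * I = I * (g * (I * J)) ∧ g * (I * J) * J = J * (g * (I * J))) := by
  refine ⟨fun a b => ⟨?_, ?_⟩, fun a b => ⟨?_, ?_⟩, fun a b => ?_⟩
  · rw [a, mul_assoc, a]
  · rw [a, mul_assoc I g J, b, mul_neg, ← mul_assoc, ← mul_assoc J, hJI, neg_mul]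
  · rw [b, mul_assoc J g I, a, mul_neg, ← mul_assoc, ← mul_assoc I, hJI, neg_mul, neg_neg]
  · rw [b, mul_assoc J g J, b]
  · have h : g * (I * J) = I * J * g := by
      rw [← mul_assoc, a, neg_mul, mul_assoc, b, mul_neg, neg_neg, mul_assoc]
    have hk : J * (I * J) = -(I * J * J) := by rw [← mul_assoc, hJI, neg_mul]
    refine ⟨?_, ?_⟩
    · rw [h, mul_assoc (I * J), a, mul_neg, mul_assoc I J (I * g), ← mul_assoc J I, hJI, neg_mul,
        mul_neg, neg_neg]
    · rw [h, mul_assoc (I * J), b, mul_neg, ← mul_assoc (I * J), ← mul_assoc J (I * J) g, hk, neg_mul]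

theorem isUnit_coe (s : SL2) : IsUnit (s : M2) :=
  (Matrix.isUnit_iff_isUnit_det _).2 (by rw [s.det_coe]; exact isUnit_one)

namespace Quat

variable (Q : Quat (F := F) i j w)
include Q

theorem ne_scalar_i (h2 : (2 : F) ≠ 0) (d : F) : (i : M2) ≠ d • 1 :=
  ne_scalar_of_sq h2 (isUnit_coe j) (isUnit_coe i) Q.anti d

theorem ne_scalar_j (h2 : (2 : F) ≠ 0) (d : F) : (j : M2) ≠ d • 1 :=
  ne_scalar_of_sq h2 (isUnit_coe i) (isUnit_coe j) (by rw [Q.anti, neg_neg]) d

theorem sq_mk_i : (QuotientGroup.mk i : PSL2) * QuotientGroup.mk i = 1 := by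
  rw [← QuotientGroup.mk_mul, ← QuotientGroup.mk_one]
  exact (mk_eq_of_neg (by rw [Matrix.SpecialLinearGroup.coe_mul, Q.sqi, Matrix.SpecialLinearGroup.coe_one])).symm

theorem sq_mk_j : (QuotientGroup.mk j : PSL2) * QuotientGroup.mk j = 1 := by
  rw [← QuotientGroup.mk_mul, ← QuotientGroup.mk_one]
  exact (mk_eq_of_neg (by rw [Matrix.SpecialLinearGroup.coe_mul, Q.sqj, Matrix.SpecialLinearGroup.coe_one])).symm

theorem comm_mk : (QuotientGroup.mk i : PSL2) * QuotientGroup.mk j =
    QuotientGroup.mk j * QuotientGroup.mk i := by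
  rw [← QuotientGroup.mk_mul, ← QuotientGroup.mk_mul]
  exact mk_eq_of_neg (by rw [Matrix.SpecialLinearGroup.coe_mul, Matrix.SpecialLinearGroup.coe_mul, Q.anti])

theorem i_ne_one (h2 : (2 : F) ≠ 0) : (QuotientGroup.mk i : PSL2) ≠ 1 := fun h => by
  rw [← QuotientGroup.mk_one, mk_eq_mk_iff] at h
  obtain ⟨c, hc⟩ := h
  rcases eq_or_ne c 0 with rfl | hc0
  · rw [zero_smul] at hc
    exact one_ne_zero (Matrix.SpecialLinearGroup.coe_one.symm.trans hc)
  · refine Q.ne_scalar_i h2 c⁻¹ ?_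
    rw [← Matrix.SpecialLinearGroup.coe_one, hc, smul_smul, inv_mul_cancel₀ hc0, one_smul]

theorem j_ne_one (h2 : (2 : F) ≠ 0) : (QuotientGroup.mk j : PSL2) ≠ 1 := fun h => by
  rw [← QuotientGroup.mk_one, mk_eq_mk_iff] at h
  obtain ⟨c, hc⟩ := h
  rcases eq_or_ne c 0 with rfl | hc0
  · rw [zero_smul] at hc
    exact one_ne_zero (Matrix.SpecialLinearGroup.coe_one.symm.trans hc)
  · refine Q.ne_scalar_j h2 c⁻¹ ?_
    rw [← Matrix.SpecialLinearGroup.coe_one, hc, smul_smul, inv_mul_cancel₀ hc0, one_smul]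

theorem i_ne_j (h2 : (2 : F) ≠ 0) : (QuotientGroup.mk i : PSL2) ≠ QuotientGroup.mk j := fun h => by
  obtain ⟨c, hc⟩ := (mk_eq_mk_iff i j).1 h
  have h1 := Q.anti
  rw [hc, Matrix.smul_mul, Matrix.mul_smul, Q.sqi] at h1
  have h3 : (2 : F) • (c • (-1 : M2)) = 0 := by rw [two_smul]; exact eq_neg_iff_add_eq_zero.1 h1
  have hc0 : c = 0 := by
    have h4 := (smul_eq_zero.1 h3).resolve_left h2
    exact (smul_eq_zero.1 h4).resolve_right (neg_ne_zero.2 one_ne_zero)
  rw [hc0, zero_smul] at hc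
  exact not_isUnit_zero (hc ▸ isUnit_coe j)

theorem cyc_j : (QuotientGroup.mk w : PSL2) * QuotientGroup.mk j * (QuotientGroup.mk w)⁻¹ =
    QuotientGroup.mk i := by
  have h : w * j = i * w := Subtype.ext (by simpa using Q.wj)
  rw [← QuotientGroup.mk_inv, ← QuotientGroup.mk_mul, ← QuotientGroup.mk_mul, h, mul_inv_cancel_right]

theorem cyc_i : (QuotientGroup.mk w : PSL2) * QuotientGroup.mk i * (QuotientGroup.mk w)⁻¹ =
    QuotientGroup.mk i * QuotientGroup.mk j := by
  have h : w * i = i * j * w := Subtype.ext (by simpa using Q.wi)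
  rw [← QuotientGroup.mk_inv, ← QuotientGroup.mk_mul, ← QuotientGroup.mk_mul, h, mul_inv_cancel_right,
    QuotientGroup.mk_mul]

/-- A matrix commuting with both is scalar. -/
theorem scalar_of_commute (h2 : (2 : F) ≠ 0) {M : M2} (hi : M * i = (i : M2) * M)
    (hj : M * j = (j : M2) * M) : ∃ c : F, M = c • 1 := by
  have hti : (i : M2).trace = 0 := tr_zero_of_sq (c := -1) (by rw [Q.sqi, neg_one_smul]) (Q.ne_scalar_i h2)
  have hi0 : (i : M2) ≠ 0 := fun h => not_isUnit_zero (h ▸ isUnit_coe i)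
  obtain ⟨κ, hκ⟩ : ∃ κ : F, tfree M = κ • (i : M2) := prop_of_commute h2 (trace_tfree h2 M) hti hi0 (by
    simp only [tfree, sub_mul, mul_sub, Matrix.smul_mul, Matrix.mul_smul, one_mul, mul_one, hi])
  have hM : M = κ • (i : M2) + (M.trace / 2) • 1 := by rw [← hκ]; simp [tfree]
  refine ⟨M.trace / 2, ?_⟩
  have h := hj
  rw [hM, add_mul, mul_add, Matrix.smul_mul, Matrix.mul_smul, Matrix.smul_mul, Matrix.mul_smul, one_mul,
    mul_one, Q.anti, smul_neg, add_left_inj, eq_neg_iff_add_eq_zero, ← two_smul F, smul_eq_zero] at h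
  have hκ0 : κ = 0 := ((smul_eq_zero.1 (h.resolve_left h2))).resolve_right
    fun h0 => not_isUnit_zero (h0 ▸ (isUnit_coe i).mul (isUnit_coe j))
  conv_lhs => rw [hM, hκ0, zero_smul, zero_add]

/-- An automorphism induced by a matrix and fixing the four-group is inner by one of its elements. -/
theorem fix_linear (h2 : (2 : F) ≠ 0) {g : GL2}
    (hi : (conjAut g : MulAut PSL2) (QuotientGroup.mk i) = QuotientGroup.mk i)
    (hj : (conjAut g : MulAut PSL2) (QuotientGroup.mk j) = QuotientGroup.mk j) :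
    ∃ v : PSL2, (v = 1 ∨ v = QuotientGroup.mk i ∨ v = QuotientGroup.mk j ∨
      v = QuotientGroup.mk i * QuotientGroup.mk j) ∧ (conjAut g : MulAut PSL2) = MulAut.conj v := by
  have key : ∀ s : SL2, (conjAut g : MulAut PSL2) (QuotientGroup.mk s) = QuotientGroup.mk s →
      (g : M2) * s = (s : M2) * g ∨ (g : M2) * s = -((s : M2) * g) := by
    intro s hs
    rw [conjAut_mk] at hs
    rcases mk_eq_cases hs.symm with h | h <;> rw [coe_conjSL] at h
    · left; simpa [mul_assoc] using congrArg (· * (g : M2)) h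
    · right; simpa [mul_assoc, neg_mul] using congrArg (· * (g : M2)) h
  have fin : ∀ s : SL2, (g : M2) * s * i = (i : M2) * ((g : M2) * s) →
      (g : M2) * s * j = (j : M2) * ((g : M2) * s) →
      (conjAut g : MulAut PSL2) = MulAut.conj (QuotientGroup.mk s)⁻¹ := by
    intro s h1 h3
    obtain ⟨c, hc⟩ := Q.scalar_of_commute h2 h1 h3
    have hz : (conjAut (g * Matrix.SpecialLinearGroup.toGL s) : MulAut PSL2) = 1 := by
      refine conjAut_eq_one_of_center (mem_center_GL_of_scalar (c := c) ?_)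
      show (g : M2) * (s : M2) = _
      exact hc
    rw [map_mul, mul_eq_one_iff_eq_inv, conjAut_toGL, ← map_inv] at hz
    exact hz
  rcases key i hi with a | a <;> rcases key j hj with b | b
  · refine ⟨(QuotientGroup.mk (1 : SL2))⁻¹, Or.inl (by simp), fin 1 ?_ ?_⟩
    · simpa using a
    · simpa using b
  · refine ⟨(QuotientGroup.mk i : PSL2)⁻¹, Or.inr (Or.inl (inv_eq_of_mul_eq_one_right Q.sq_mk_i)), fin i ((twist Q.anti).1 a b).1 ((twist Q.anti).1 a b).2⟩
  · refine ⟨(QuotientGroup.mk j : PSL2)⁻¹,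
      Or.inr (Or.inr (Or.inl (inv_eq_of_mul_eq_one_right Q.sq_mk_j))), fin j ((twist Q.anti).2.1 a b).1 ((twist Q.anti).2.1 a b).2⟩
  · refine ⟨(QuotientGroup.mk (i * j) : PSL2)⁻¹, Or.inr (Or.inr (Or.inr ?_)), fin (i * j) ?_ ?_⟩
    · rw [QuotientGroup.mk_mul]
      refine inv_eq_of_mul_eq_one_right ?_
      rw [mul_assoc, ← mul_assoc (QuotientGroup.mk j : PSL2), ← Q.comm_mk, mul_assoc, Q.sq_mk_j, mul_one,
        Q.sq_mk_i]
    · rw [Matrix.SpecialLinearGroup.coe_mul]
      exact ((twist Q.anti).2.2 a b).1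
    · rw [Matrix.SpecialLinearGroup.coe_mul]
      exact ((twist Q.anti).2.2 a b).2

/-- The four-group is self-centralising. -/
theorem centralizes (h2 : (2 : F) ≠ 0) {x : PSL2}
    (hi : x * QuotientGroup.mk i = QuotientGroup.mk i * x)
    (hj : x * QuotientGroup.mk j = QuotientGroup.mk j * x) (hc : Subgroup.center PSL2 = ⊥) :
    x = 1 ∨ x = QuotientGroup.mk i ∨ x = QuotientGroup.mk j ∨
      x = QuotientGroup.mk i * QuotientGroup.mk j := by
  obtain ⟨s, rfl⟩ := QuotientGroup.mk_surjective x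
  obtain ⟨v, hv, he⟩ := Q.fix_linear h2 (g := Matrix.SpecialLinearGroup.toGL s)
    (by rw [conjAut_toGL, MulAut.conj_apply, hi, mul_inv_cancel_right])
    (by rw [conjAut_toGL, MulAut.conj_apply, hj, mul_inv_cancel_right])
  rw [conjAut_toGL] at he
  have hz : v⁻¹ * (QuotientGroup.mk s : PSL2) ∈ Subgroup.center PSL2 := by
    rw [Subgroup.mem_center_iff]
    intro y
    have h := DFunLike.congr_fun he y
    simp only [MulAut.conj_apply] at h
    have h' : (v⁻¹ * QuotientGroup.mk s) * y * (v⁻¹ * QuotientGroup.mk s)⁻¹ = y := by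
      calc _ = v⁻¹ * (QuotientGroup.mk s * y * (QuotientGroup.mk s : PSL2)⁻¹) * v := by group
        _ = v⁻¹ * (v * y * v⁻¹) * v := by rw [h]
        _ = y := by group
    exact (mul_inv_eq_iff_eq_mul.1 h').symm
  rw [hc, Subgroup.mem_bot, inv_mul_eq_one] at hz
  rw [← hz]
  exact hv

end Quat

/-- The centraliser of an element of odd order is abelian and has at most one involution. -/
theorem odd_centralizer [Fintype F] (h2 : (2 : F) ≠ 0) {a : PSL2} (ha : Odd (orderOf a)) (ha1 : a ≠ 1)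
    {x y : PSL2} (hx : x * a = a * x) (hy : y * a = a * y) :
    x * y = y * x ∧ (x * x = 1 → y * y = 1 → x ≠ 1 → y ≠ 1 → x = y) := by
  obtain ⟨s, rfl, hs⟩ := exists_lift h2 ha
  obtain ⟨X, rfl⟩ := QuotientGroup.mk_surjective x
  obtain ⟨Y, rfl⟩ := QuotientGroup.mk_surjective y
  have hXs : X * s = s * X := commute_lift h2 hs hx
  have hYs : Y * s = s * Y := commute_lift h2 hs hy
  have hN0 : tfree (s : M2) ≠ 0 := by
    intro h0
    apply ha1
    rw [tfree, sub_eq_zero] at h0
    rw [← QuotientGroup.mk_one, eq_comm]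
    refine (mk_eq_mk_iff 1 s).2 ⟨(s : M2).trace / 2, ?_⟩
    rw [Matrix.SpecialLinearGroup.coe_one]
    exact h0
  have hc : ∀ Z : SL2, Z * s = s * Z → (Z : M2) * tfree (s : M2) = tfree (s : M2) * Z := by
    intro Z hZ
    have h : (Z : M2) * s = (s : M2) * Z := by simpa using congrArg Subtype.val hZ
    simp only [tfree, sub_mul, mul_sub, Matrix.smul_mul, Matrix.mul_smul, one_mul, mul_one, h]
  have hXY : (X : M2) * Y = (Y : M2) * X :=
    commute_both h2 (trace_tfree h2 _) hN0 (hc X hXs) (hc Y hYs)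
  refine ⟨?_, fun hxx hyy hx1 hy1 => ?_⟩
  · rw [← QuotientGroup.mk_mul, ← QuotientGroup.mk_mul]
    exact congrArg _ (Subtype.ext (by simpa using hXY))
  · have sq : ∀ Z : SL2, (QuotientGroup.mk Z : PSL2) * QuotientGroup.mk Z = 1 →
        (QuotientGroup.mk Z : PSL2) ≠ 1 → (Z : M2) * Z = -1 ∧ (Z : M2).trace = 0 := by
      intro Z hZ hZ1
      have hns : ∀ d : F, (Z : M2) ≠ d • 1 := fun d hd => hZ1 (by
        rw [← QuotientGroup.mk_one, eq_comm]
        exact (mk_eq_mk_iff 1 Z).2 ⟨d, by rw [hd, Matrix.SpecialLinearGroup.coe_one]⟩)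
      rw [← QuotientGroup.mk_mul, ← QuotientGroup.mk_one] at hZ
      rcases mk_eq_cases hZ.symm with h | h <;> rw [Matrix.SpecialLinearGroup.coe_mul, Matrix.SpecialLinearGroup.coe_one] at h
      · rcases PSLTwo.Sylow.sq_eq_one h2 (g := Z) (Subtype.ext (by simpa using h)) with rfl | rfl
        · exact absurd (QuotientGroup.mk_one _) hZ1
        · exact absurd ((QuotientGroup.eq_one_iff _).2 ((PSLTwo.Sylow.mem_center_iff' h2).2 (Or.inr rfl))) hZ1
      · exact ⟨h, tr_zero_of_sq (c := -1) (by rw [h, neg_one_smul]) hns⟩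
    obtain ⟨hX2, hXt⟩ := sq X hxx hx1
    obtain ⟨hY2, hYt⟩ := sq Y hyy hy1
    obtain ⟨κ, hκ⟩ := prop_of_commute h2 hXt hYt (fun h => not_isUnit_zero (h ▸ isUnit_coe Y)) hXY
    exact ((mk_eq_mk_iff Y X).2 ⟨κ, hκ⟩).symm

/-- A square order forces `8` to divide the group order. -/
theorem not_square_card [Fintype F] (hodd : Odd (Fintype.card F)) (h8 : ¬ 8 ∣ Nat.card PSL2) (r : ℕ) :
    Fintype.card F ≠ r * r := by
  intro hr
  apply h8
  have h := Linear.two_mul_card_PSL_two_of_odd (F := F) hodd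
  rw [hr] at h hodd
  obtain ⟨k, rfl⟩ : Odd r := (Nat.odd_mul.1 hodd).1
  obtain ⟨l, hl⟩ := Nat.even_mul_succ_self k
  have h1 : (2 * k + 1) * (2 * k + 1) - 1 = 8 * l := by
    have : (2 * k + 1) * (2 * k + 1) = 4 * (k * (k + 1)) + 1 := by ring
    omega
  have h2 : (2 * k + 1) * (2 * k + 1) + 1 = 2 * (4 * l + 1) := by
    have : (2 * k + 1) * (2 * k + 1) = 4 * (k * (k + 1)) + 1 := by ring
    omega
  rw [h1, h2] at h
  exact Dvd.intro ((2 * k + 1) * (2 * k + 1) * l * (4 * l + 1))
    (Nat.eq_of_mul_eq_mul_left two_pos (h.trans (by ring))).symm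

/-- Field automorphisms of two-power order are trivial unless the order is a square. -/
theorem fieldAut_two_power [Fintype F] (hns : ∀ r : ℕ, Fintype.card F ≠ r * r) {σ : F ≃+* F} {k : ℕ}
    (h : σ ^ 2 ^ k = 1) : σ = 1 := by
  obtain ⟨p, hp⟩ := CharP.exists F
  haveI : Fact p.Prime := ⟨CharP.char_is_prime F p⟩
  obtain ⟨f, -, hf⟩ := FiniteField.card F p
  have hfo : Odd (f : ℕ) := by
    rw [← Nat.not_even_iff_odd]
    rintro ⟨e, he⟩
    exact hns (p ^ e) (by rw [hf, he, pow_add])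
  haveI : Finite (F ≃+* F) := Finite.of_injective (fun τ => (τ : F → F)) DFunLike.coe_injective
  have h1 : orderOf σ ∣ (f : ℕ) := card_fieldAuts hf ▸ orderOf_dvd_natCard σ
  have h3 : orderOf σ ∣ Nat.gcd (2 ^ k) f := Nat.dvd_gcd (orderOf_dvd_of_pow_eq_one h) h1
  rw [Nat.Coprime.pow_left k (Nat.coprime_two_left.2 hfo), Nat.dvd_one, orderOf_eq_one_iff] at h3
  exact h3

/-- There is no normal subgroup of odd order but the trivial one. -/
theorem normal_odd_eq_bot [Fintype F] (hodd : Odd (Fintype.card F)) (N : Subgroup PSL2) [hN : N.Normal]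
    (hNo : Odd (Nat.card N)) : N = ⊥ := by
  have h2 : (2 : F) ≠ 0 := PSLTwo.Sylow.two_ne_zero_of_odd (Nat.odd_iff.1 hodd)
  have hev : 2 ∣ Nat.card PSL2 := by
    obtain ⟨i, j, w, Q⟩ := exists_quat (F := F) h2
    have h : orderOf (QuotientGroup.mk i : PSL2) = 2 :=
      orderOf_eq_prime (by rw [pow_two]; exact Q.sq_mk_i) (Q.i_ne_one h2)
    have h1 := orderOf_dvd_natCard (QuotientGroup.mk i : PSL2)
    rwa [h] at h1
  have h3 : 3 ≤ Fintype.card F := by
    have := Fintype.one_lt_card (α := F)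
    have := Nat.odd_iff.1 hodd
    omega
  rcases eq_or_lt_of_le h3 with hq | hq
  · by_contra hne
    have hc := Linear.two_mul_card_PSL_two_of_odd (F := F) hodd
    rw [← hq] at hc
    norm_num at hc
    haveI : Fact (Nat.Prime 3) := ⟨Nat.prime_three⟩
    have hdvd : Nat.card N ∣ 12 := (show Nat.card PSL2 = 12 by omega) ▸ N.card_subgroup_dvd_card
    have hN3 : Nat.card N = 3 := by
      have hle := Nat.le_of_dvd (by norm_num) hdvd
      have h1 : Nat.card N ≠ 1 := fun h => hne (Subgroup.card_eq_one.1 h)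
      rw [Nat.odd_iff] at hNo
      interval_cases Nat.card N <;> omega
    have hidx : N.index = 4 := by
      have := N.card_mul_index
      rw [hN3] at this
      omega
    have h3' : (3 : F) = 0 := by
      have h := Nat.cast_card_eq_zero F
      rw [← hq] at h
      exact_mod_cast h
    let u : SL2 := ⟨!![1, 1; 0, 1], by simp⟩
    let l : SL2 := ⟨!![1, 0; 1, 1], by simp⟩
    have hu : u ^ 3 = 1 := by
      apply Subtype.ext
      rw [Matrix.SpecialLinearGroup.coe_pow]
      ext a b; fin_cases a <;> fin_cases b <;> simp [u, pow_succ]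
      linear_combination h3'
    have hl : l ^ 3 = 1 := by
      apply Subtype.ext
      rw [Matrix.SpecialLinearGroup.coe_pow]
      ext a b; fin_cases a <;> fin_cases b <;> simp [l, pow_succ]
      linear_combination h3'
    have hmem : ∀ s : SL2, s ^ 3 = 1 → (QuotientGroup.mk s : PSL2) ∈ N := by
      intro s hs
      have h4 : ((QuotientGroup.mk s : PSL2)) ^ 4 ∈ N := hidx ▸ N.pow_index_mem _
      rw [pow_succ, ← QuotientGroup.mk_pow, hs, QuotientGroup.mk_one, one_mul] at h4
      exact h4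
    haveI : IsCyclic N := isCyclic_of_prime_card hN3
    have hcom := congrArg Subtype.val (@IsCyclic.commGroup N _ _ |>.mul_comm
      (⟨_, hmem u hu⟩ : N) ⟨_, hmem l hl⟩)
    have hodd_u : Odd (orderOf u) := Odd.of_dvd_nat (by decide) (orderOf_dvd_of_pow_eq_one hu)
    have := congrArg (fun m : SL2 => (m : M2) 0 0) (commute_lift h2 hodd_u (t := l) hcom.symm)
    rw [Matrix.SpecialLinearGroup.coe_mul, Matrix.SpecialLinearGroup.coe_mul] at this
    simp [u, l] at this
  · haveI := Linear.isSimpleGroup_PSL (F := F) (le_refl 2) (fun _ => by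
      rw [Nat.card_eq_fintype_card]; omega)
    refine (Subgroup.Normal.eq_bot_or_eq_top hN).resolve_right fun h => ?_
    rw [h, Subgroup.card_top] at hNo
    exact Nat.not_even_iff_odd.2 hNo (even_iff_two_dvd.2 hev)

end Cfsg.Agent.Lib.Walter66
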