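import Cfsg.Prelude.Def_Involutions
import Cfsg.Agent.Lib.Walter66.PSLFacts
import Cfsg.Agent.Lib.PushUpP.Psl
import Cfsg.Agent.Lib.RankOne.Involution
import Cfsg.Agent.Lib.ZStar.Consequences
import Cfsg.Agent.Lib.ZStar.StronglyClosed

/-!
# The centralizer `⟨t⟩ × E`, `E` over `PSL(2,q)`, with abelian Sylow 2-subgroups

Owner: helper66.
-/

set_option autoImplicit false
set_option linter.unusedSectionVars false

namespace Cfsg.Agent.Lib.Walter66

open Subgroup Cfsg.Agent.Lib.AutPSL Cfsg.Agent.Lib.GorensteinWalter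
open scoped MatrixGroups

universe u

variable {G : Type u} [Group G] [Finite G]

/-- The configuration. -/
structure Conf (t : G) (E E₀ : Subgroup G) : Prop where
  sylow : ∀ S : Sylow 2 G, IsMulCommutative (S : Subgroup G)
  ord : orderOf t = 2
  mem_cent : ∀ e ∈ E, e * t = t * e
  not_mem : t ∉ E
  decomp : ∀ c : G, c * t = t * c → ∃ e ∈ E, c = e ∨ c = t * e
  le : E₀ ≤ E
  conj₀ : ∀ c ∈ E, ∀ x ∈ E₀, c * x * c⁻¹ ∈ E₀
  cE : ∀ c ∈ E, (∀ x ∈ E₀, c * x = x * c) → c = 1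
  psl : ∃ (F : Type) (_ : Field F) (_ : Fintype F), Odd (Fintype.card F) ∧
    Nonempty (E₀ ≃* Matrix.ProjectiveSpecialLinearGroup (Fin 2) F)

/-- What is needed from the four-group of `E₀`. -/
structure Tri (E E₀ : Subgroup G) (a b r : G) : Prop where
  ha : orderOf a = 2
  hb : orderOf b = 2
  comm : a * b = b * a
  ne : a ≠ b
  amem : a ∈ E₀
  bmem : b ∈ E₀
  rmem : r ∈ E₀
  cb : r * b * r⁻¹ = a
  ca : r * a * r⁻¹ = a * b
  oddCent : ∀ z ∈ E₀, Odd (orderOf z) → z ≠ 1 → ∀ x ∈ E₀, ∀ y ∈ E₀, x * z = z * x →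
    y * z = z * y → x * y = y * x ∧ (x * x = 1 → y * y = 1 → x ≠ 1 → y ≠ 1 → x = y)
  cent₀ : ∀ x ∈ E₀, x * a = a * x → x * b = b * x → x = 1 ∨ x = a ∨ x = b ∨ x = a * b
  cent : ∀ x ∈ E, (∃ k : ℕ, x ^ 2 ^ k = 1) → x * a = a * x → x * b = b * x →
    x = 1 ∨ x = a ∨ x = b ∨ x = a * b
  noOdd : ∀ X : Subgroup G, X ≤ E₀ → Odd (Nat.card X) →
    (∀ c ∈ E₀, ∀ x ∈ X, c * x * c⁻¹ ∈ X) → X = ⊥

theorem sq_of_ord {x : G} (h : orderOf x = 2) : x * x = 1 := by
  rw [← pow_two, ← h, pow_orderOf_eq_one]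

theorem ne_one_of_ord {x : G} (h : orderOf x = 2) : x ≠ 1 := fun h1 => by
  rw [h1, orderOf_one] at h
  omega

theorem pgroup_comm (hS : ∀ S : Sylow 2 G, IsMulCommutative (S : Subgroup G)) {P : Subgroup G}
    (hP : IsPGroup 2 P) {x y : G} (hx : x ∈ P) (hy : y ∈ P) : x * y = y * x := by
  obtain ⟨S, hle⟩ := hP.exists_le_sylow
  exact congrArg Subtype.val ((hS S).1.1 ⟨x, hle hx⟩ ⟨y, hle hy⟩)

/-- Commuting elements of square one generate a 2-group. -/
theorem closure_pgroup {H : Type*} [Group H] {s : Set H} (h1 : ∀ x ∈ s, x * x = 1)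
    (h2 : ∀ x ∈ s, ∀ y ∈ s, x * y = y * x) : IsPGroup 2 (Subgroup.closure s) := by
  haveI := Subgroup.isMulCommutative_closure h2
  rintro ⟨x, hx⟩
  refine ⟨1, Subtype.ext ?_⟩
  show x ^ 2 ^ 1 = 1
  induction hx using Subgroup.closure_induction with
  | mem y hy => simpa [pow_two] using h1 y hy
  | one => simp
  | mul y z hy hz iy iz =>
    have hc : Commute y z :=
      congrArg Subtype.val ((Subgroup.isMulCommutative_closure h2).1.1 ⟨y, hy⟩ ⟨z, hz⟩)
    rw [hc.mul_pow, iy, iz, one_mul]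
  | inv y _ iy => rw [inv_pow, iy, inv_one]

namespace Conf

variable {t : G} {E E₀ : Subgroup G} (K : Conf t E E₀)
include K

theorem exists_tri : ∃ a b r : G, Tri E E₀ a b r := by
  classical
  obtain ⟨F, _, _, hodd, ⟨φ⟩⟩ := K.psl
  have h2 : (2 : F) ≠ 0 := PSLTwo.Sylow.two_ne_zero_of_odd (Nat.odd_iff.1 hodd)
  obtain ⟨i, j, w, Q⟩ := exists_quat (F := F) h2
  let f : Matrix.ProjectiveSpecialLinearGroup (Fin 2) F →* G := E₀.subtype.comp φ.symm.toMonoidHom
  have hf : Function.Injective f := Subtype.val_injective.comp φ.symm.injective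
  have hfE : ∀ x, f x ∈ E₀ := fun x => (φ.symm x).2
  have hpre : ∀ x ∈ E₀, ∃ y, f y = x := fun x hx => ⟨φ ⟨x, hx⟩, by simp [f]⟩
  set ī : Matrix.ProjectiveSpecialLinearGroup (Fin 2) F := QuotientGroup.mk i with hī
  set j' : Matrix.ProjectiveSpecialLinearGroup (Fin 2) F := QuotientGroup.mk j with hj'
  have hord : ∀ {x : Matrix.ProjectiveSpecialLinearGroup (Fin 2) F}, x * x = 1 → x ≠ 1 →
      orderOf (f x) = 2 := fun {x} hx hx1 => by
    rw [orderOf_injective f hf]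
    exact orderOf_eq_prime (by rw [pow_two]; exact hx) hx1
  have hcomm : ∀ {x y}, f x * f y = f y * f x → x * y = y * x := fun {x y} h =>
    hf (by rw [map_mul, map_mul, h])
  have hcases : ∀ {y : Matrix.ProjectiveSpecialLinearGroup (Fin 2) F},
      (y = 1 ∨ y = ī ∨ y = j' ∨ y = ī * j') →
      (f y = 1 ∨ f y = f ī ∨ f y = f j' ∨ f y = f ī * f j') := by
    rintro y (rfl | rfl | rfl | rfl) <;> simp
  have hz := PushUpP.center_psl (F := F)
  have h8 : ¬ 8 ∣ Nat.card (Matrix.ProjectiveSpecialLinearGroup (Fin 2) F) := by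
    intro h8
    haveI : Fact (Nat.Prime 2) := ⟨Nat.prime_two⟩
    have hpg : IsPGroup 2 (Subgroup.closure ({ī, j'} : Set _)) := by
      refine closure_pgroup ?_ ?_
      · rintro x (rfl | rfl)
        exacts [Q.sq_mk_i, Q.sq_mk_j]
      · rintro x (rfl | rfl) y (rfl | rfl) <;> first | rfl | exact Q.comm_mk | exact Q.comm_mk.symm
    obtain ⟨P, hP⟩ := hpg.exists_le_sylow
    have hsub : ((P : Subgroup (Matrix.ProjectiveSpecialLinearGroup (Fin 2) F)) :
        Set (Matrix.ProjectiveSpecialLinearGroup (Fin 2) F)) ⊆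
        (({1, ī, j', ī * j'} : Finset (Matrix.ProjectiveSpecialLinearGroup (Fin 2) F)) :
          Set (Matrix.ProjectiveSpecialLinearGroup (Fin 2) F)) := by
      intro x hx
      have hc : ∀ {y}, y ∈ (P : Subgroup (Matrix.ProjectiveSpecialLinearGroup (Fin 2) F)) →
          x * y = y * x := fun {y} hy =>
        hcomm (pgroup_comm K.sylow (P.isPGroup'.map f) (mem_map_of_mem f hx) (mem_map_of_mem f hy))
      have := Q.centralizes h2 (hc (hP (subset_closure (Or.inl rfl))))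
        (hc (hP (subset_closure (Or.inr rfl)))) hz
      simpa using this
    have h8P : 2 ^ 3 ∣ Nat.card (P : Subgroup (Matrix.ProjectiveSpecialLinearGroup (Fin 2) F)) :=
      P.pow_dvd_card_of_pow_dvd_card h8
    have hle : Nat.card (P : Subgroup (Matrix.ProjectiveSpecialLinearGroup (Fin 2) F)) ≤ 4 := by
      refine le_trans (Nat.card_mono (Finset.finite_toSet _) hsub) ?_
      rw [Nat.card_coe_set_eq, Set.ncard_coe_finset]
      exact Finset.card_le_four
    have := Nat.le_of_dvd Nat.card_pos h8P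
    omega
  have hns : ∀ r : ℕ, Fintype.card F ≠ r * r := not_square_card hodd h8
  refine ⟨f ī, f j', f (QuotientGroup.mk w), hord Q.sq_mk_i (Q.i_ne_one h2),
    hord Q.sq_mk_j (Q.j_ne_one h2), ?_, fun h => Q.i_ne_j h2 (hf h), hfE _, hfE _, hfE _, ?_, ?_,
    ?_, ?_, ?_, ?_⟩
  · rw [← map_mul, ← map_mul, hī, hj', Q.comm_mk]
  · rw [← map_inv, ← map_mul, ← map_mul, hī, hj', Q.cyc_j]
  · rw [← map_inv, ← map_mul, ← map_mul, hī, hj', Q.cyc_i, map_mul]
  · intro z hz' hzo hz1 x hx y hy hxz hyz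
    obtain ⟨z, rfl⟩ := hpre z hz'
    obtain ⟨x, rfl⟩ := hpre x hx
    obtain ⟨y, rfl⟩ := hpre y hy
    rw [orderOf_injective f hf] at hzo
    obtain ⟨h1, h3⟩ := odd_centralizer h2 hzo (fun h => hz1 (by rw [h, map_one])) (hcomm hxz) (hcomm hyz)
    refine ⟨by rw [← map_mul, h1, map_mul], fun a1 a2 a3 a4 => ?_⟩
    rw [h3 (hf (by rw [map_mul, a1, map_one])) (hf (by rw [map_mul, a2, map_one]))
      (fun h => a3 (by rw [h, map_one])) (fun h => a4 (by rw [h, map_one]))]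
  · intro x hx hxa hxb
    obtain ⟨x, rfl⟩ := hpre x hx
    exact hcases (Q.centralizes h2 (hcomm hxa) (hcomm hxb) hz)
  · rintro x hx ⟨k, hk⟩ hxa hxb
    set L := E₀.subgroupOf E with hL
    haveI : L.Normal := ⟨fun n hn c => mem_subgroupOf.2 (by
      simpa using K.conj₀ c c.2 n (mem_subgroupOf.1 hn))⟩
    let e : L ≃* Matrix.ProjectiveSpecialLinearGroup (Fin 2) F := (subgroupOfEquivOfLe K.le).trans φ
    have hLc : Subgroup.centralizer (L : Set E) = ⊥ := by
      rw [eq_bot_iff]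
      intro c hc
      refine mem_bot.2 (Subtype.ext (K.cE c c.2 fun y hy => ?_))
      exact congrArg Subtype.val (mem_centralizer_iff.1 hc ⟨y, K.le hy⟩ (mem_subgroupOf.2 hy)).symm
    set X : E := ⟨x, hx⟩
    obtain ⟨g, τ, hφ⟩ := Model.exists_semilinear L e X
    have hτ : τ = 1 := by
      refine fieldAut_two_power hns (k := k) ?_
      have h : (Model.autHom L e X) ^ 2 ^ k = (conjAut g * fieldAut τ) ^ 2 ^ k := by rw [hφ]
      rw [← map_pow, show X ^ 2 ^ k = 1 from Subtype.ext (by simpa [X] using hk), map_one,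
        conjAut_mul_fieldAut_pow] at h
      exact (eq_one_of_conj_field (le_refl 2) h.symm).2
    rw [hτ, map_one, mul_one] at hφ
    have hfix : ∀ y, x * f y = f y * x → (conjAut g) y = y := by
      intro y hy
      obtain ⟨l, rfl⟩ := e.surjective y
      rw [← hφ, Model.autHom_apply]
      congr 1
      have hl : f (e l) = ((l : E) : G) := by simp [f, e, subgroupOfEquivOfLe]
      refine Subtype.ext (Subtype.ext ?_)
      rw [hl] at hy
      simp [X, MulAut.conjNormal_apply, hy]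
    obtain ⟨v, hv, hg⟩ := Q.fix_linear h2 (hfix _ hxa) (hfix _ hxb)
    obtain ⟨l, rfl⟩ := e.surjective v
    have hX : X = (l : E) :=
      Model.autHom_injective L e hLc (by rw [hφ, hg, Model.autHom_of_mem L e l])
    have hl : f (e l) = ((l : E) : G) := by simp [f, e, subgroupOfEquivOfLe]
    have hxl : x = f (e l) := by rw [hl, ← hX]
    rw [hxl]
    exact hcases hv
  · intro X hX hXo hXn
    have hN : ((X.comap f)).Normal := ⟨fun n hn c => by
      rw [mem_comap, map_mul, map_mul, map_inv]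
      exact hXn _ (hfE c) _ hn⟩
    have ho : Odd (Nat.card (X.comap f)) := by
      refine hXo.of_dvd_nat ?_
      have := Subgroup.card_comap_dvd_of_injective X f hf
      exact this
    have hb := normal_odd_eq_bot hodd (X.comap f) ho
    rw [eq_bot_iff]
    intro x hx
    obtain ⟨y, rfl⟩ := hpre x (hX hx)
    have hy : y ∈ X.comap f := hx
    rw [hb, mem_bot] at hy
    rw [hy, map_one]
    exact one_mem _

theorem comm_t {c : G} (hc : c * t = t * c) {e : G} (he : e ∈ E) :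
    c * e * c⁻¹ ∈ E := by
  obtain ⟨d, hd, rfl | rfl⟩ := K.decomp c hc
  · exact E.mul_mem (E.mul_mem hd he) (E.inv_mem hd)
  · have h1 := E.mul_mem (E.mul_mem hd he) (E.inv_mem hd)
    rwa [show t * d * e * (t * d)⁻¹ = t * (d * e * d⁻¹) * t⁻¹ by group, ← K.mem_cent _ h1,
      mul_inv_cancel_right]

theorem conj_E₀ {c : G} (hc : c * t = t * c) {x : G} (hx : x ∈ E₀) : c * x * c⁻¹ ∈ E₀ := by
  obtain ⟨d, hd, rfl | rfl⟩ := K.decomp c hc
  · exact K.conj₀ c hd x hx
  · have h1 := K.conj₀ d hd x hx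
    rwa [show t * d * x * (t * d)⁻¹ = t * (d * x * d⁻¹) * t⁻¹ by group, ← K.mem_cent _ (K.le h1),
      mul_inv_cancel_right]

theorem odd_mem {c : G} (hc : c * t = t * c) (ho : Odd (orderOf c)) : c ∈ E := by
  obtain ⟨e, he, rfl | rfl⟩ := K.decomp c hc
  · exact he
  · exfalso
    apply K.not_mem
    obtain ⟨n, hn⟩ := ho
    have h1 := pow_orderOf_eq_one (t * e)
    rw [(show Commute t e from (K.mem_cent e he).symm).mul_pow, hn, pow_succ t, pow_mul,
      pow_two, sq_of_ord K.ord, one_pow, one_mul] at h1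
    rw [eq_inv_of_mul_eq_one_left h1]
    exact E.inv_mem (E.pow_mem he _)

/-- `C(t)` has trivial odd core. -/
theorem no_odd {a b r : G} (T : Tri E E₀ a b r) {X : Subgroup G} (hXt : ∀ x ∈ X, x * t = t * x)
    (hXo : Odd (Nat.card X)) (hXn : ∀ c ∈ E, ∀ x ∈ X, c * x * c⁻¹ ∈ X) : X = ⊥ := by
  have hord : ∀ x ∈ X, Odd (orderOf x) := fun x hx => by
    rw [← Subgroup.orderOf_mk x hx]
    exact hXo.of_dvd_nat (orderOf_dvd_natCard _)
  have hXE : ∀ x ∈ X, x ∈ E := fun x hx => K.odd_mem (hXt x hx) (hord x hx)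
  have hI : X ⊓ E₀ = ⊥ :=
    T.noOdd _ inf_le_right (hXo.of_dvd_nat (card_dvd_of_le inf_le_left)) fun c hc x hx =>
      ⟨hXn c (K.le hc) x hx.1, E₀.mul_mem (E₀.mul_mem hc hx.2) (E₀.inv_mem hc)⟩
  rw [eq_bot_iff]
  intro x hx
  refine mem_bot.2 (K.cE x (hXE x hx) fun y hy => ?_)
  have hm : x * y * x⁻¹ * y⁻¹ ∈ X ⊓ E₀ := by
    refine ⟨?_, E₀.mul_mem (K.conj₀ x (hXE x hx) y hy) (E₀.inv_mem hy)⟩
    rw [show x * y * x⁻¹ * y⁻¹ = x * (y * x⁻¹ * y⁻¹) by group]
    exact X.mul_mem hx (hXn y (K.le hy) _ (X.inv_mem hx))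
  rw [hI, mem_bot, mul_inv_eq_one, mul_inv_eq_iff_eq_mul] at hm
  exact hm

/-- The Sylow 2-subgroup through the four-group. -/
theorem exists_sylow {a b r : G} (T : Tri E E₀ a b r) : ∃ P : Sylow 2 G, ∀ p : G,
    p ∈ (P : Subgroup G) ↔ ∃ v : G, (v = 1 ∨ v = a ∨ v = b ∨ v = a * b) ∧ (p = v ∨ p = t * v) := by
  haveI : Fact (Nat.Prime 2) := ⟨Nat.prime_two⟩
  have hta := K.mem_cent a (K.le T.amem)
  have htb := K.mem_cent b (K.le T.bmem)
  obtain ⟨P, hP⟩ := (closure_pgroup (s := ({t, a, b} : Set G))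
    (by
      rintro x (rfl | rfl | rfl)
      exacts [sq_of_ord K.ord, sq_of_ord T.ha, sq_of_ord T.hb])
    (by
      rintro x (rfl | rfl | rfl) y (rfl | rfl | rfl)
      exacts [rfl, hta.symm, htb.symm, hta, rfl, T.comm, htb, T.comm.symm, rfl])).exists_le_sylow
  have ht : t ∈ (P : Subgroup G) := hP (subset_closure (Or.inl rfl))
  have ha : a ∈ (P : Subgroup G) := hP (subset_closure (Or.inr (Or.inl rfl)))
  have hb : b ∈ (P : Subgroup G) := hP (subset_closure (Or.inr (Or.inr rfl)))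
  refine ⟨P, fun p => ⟨fun hp => ?_, ?_⟩⟩
  · have hc : ∀ {y}, y ∈ (P : Subgroup G) → p * y = y * p := fun {y} hy =>
      pgroup_comm K.sylow P.isPGroup' hp hy
    obtain ⟨e, he, hpe⟩ := K.decomp p (hc ht)
    have heP : e ∈ (P : Subgroup G) := by
      rcases hpe with rfl | rfl
      · exact hp
      · exact ((P : Subgroup G).mul_mem_cancel_left ht).1 hp
    have h2k : ∃ k : ℕ, e ^ 2 ^ k = 1 := by
      obtain ⟨k, hk⟩ := P.isPGroup' ⟨e, heP⟩
      exact ⟨k, congrArg Subtype.val hk⟩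
    exact ⟨e, T.cent e he h2k (pgroup_comm K.sylow P.isPGroup' heP ha)
      (pgroup_comm K.sylow P.isPGroup' heP hb), hpe⟩
  · rintro ⟨v, hv, hpv⟩
    have hvP : v ∈ (P : Subgroup G) := by
      rcases hv with rfl | rfl | rfl | rfl
      exacts [one_mem _, ha, hb, mul_mem ha hb]
    rcases hpv with rfl | rfl
    exacts [hvP, mul_mem ht hvP]

end Conf

end Cfsg.Agent.Lib.Walter66
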