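import Cfsg.Agent.Lib.Walter66.Config
import Cfsg.Agent.Lib.BenderOne.SplitFacts
import Cfsg.Agent.Lib.BenderOne.Assemble
import Cfsg.Agent.Lib.BenderSuzuki.Main

/-!
# Maximality of the centralizer `⟨t⟩ × E`

In a simple group with abelian Sylow 2-subgroups a proper overgroup of `C(t) = ⟨t⟩ × E` would
either isolate `t` or be strongly embedded.  The second case uses Bender's theorem (`PropSplit`).
Owner: helper66.
-/

set_option autoImplicit false
set_option linter.unusedSectionVars false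

namespace Cfsg.Agent.Lib.Walter66

open Subgroup
open Cfsg.Agent.Lib.Involutions.StronglyEmbedded
open Cfsg.Agent.Lib.Involutions.Basic (orderOf_conj_eq)

universe u

variable {G : Type u} [Group G] [Finite G] {t : G} {E E₀ : Subgroup G} {a b r : G}

theorem mem_subtype_iff {P : Sylow 2 G} {H : Subgroup G} (h : (P : Subgroup G) ≤ H) {x : H} :
    x ∈ ((P.subtype h : Sylow 2 H) : Subgroup H) ↔ (x : G) ∈ (P : Subgroup G) := by
  rw [Sylow.coe_subtype, mem_subgroupOf]

theorem exists_conj_mem {t e : G} (hS : ∀ S : Sylow 2 G, IsMulCommutative (S : Subgroup G))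
    {P : Sylow 2 G} (htP : t ∈ (P : Subgroup G)) (ht : t * t = 1) (he : e * e = 1)
    (hte : t * e = e * t) : ∃ c : G, c * t = t * c ∧ c * e * c⁻¹ ∈ (P : Subgroup G) := by
  haveI : Fact (Nat.Prime 2) := ⟨Nat.prime_two⟩
  obtain ⟨R, hR⟩ := (closure_pgroup (s := ({t, e} : Set G))
    (by rintro x (rfl | rfl); exacts [ht, he])
    (by rintro x (rfl | rfl) y (rfl | rfl); exacts [rfl, hte, hte.symm, rfl])).exists_le_sylow
  have htR : t ∈ (R : Subgroup G) := hR (subset_closure (Or.inl rfl))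
  have heR : e ∈ (R : Subgroup G) := hR (subset_closure (Or.inr rfl))
  have h1 : (R : Subgroup G) ≤ Subgroup.centralizer ({t} : Set G) := fun x hx =>
    mem_centralizer_singleton_iff.2 (pgroup_comm hS R.isPGroup' hx htR)
  have h2 : (P : Subgroup G) ≤ Subgroup.centralizer ({t} : Set G) := fun x hx =>
    mem_centralizer_singleton_iff.2 (pgroup_comm hS P.isPGroup' hx htP)
  obtain ⟨c, hc⟩ := MulAction.exists_smul_eq (Subgroup.centralizer ({t} : Set G))
    (R.subtype h1) (P.subtype h2)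
  refine ⟨c, mem_centralizer_singleton_iff.1 c.2, ?_⟩
  rw [Sylow.smul_subtype] at hc
  have h := Sylow.subtype_injective hc
  rw [← h]
  exact ⟨e, heR, rfl⟩

namespace Conf

variable (K : Conf t E E₀) (T : Tri E E₀ a b r)
include K T

theorem r_t : r * t = t * r := K.mem_cent r (K.le T.rmem)

theorem r_ab : r * (a * b) * r⁻¹ = b := by
  rw [show r * (a * b) * r⁻¹ = (r * a * r⁻¹) * (r * b * r⁻¹) by group, T.ca, T.cb, T.comm, mul_assoc,
    sq_of_ord T.ha, mul_one]

theorem ab_ne : a * b ≠ 1 := fun h => T.ne (by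
  rw [eq_inv_of_mul_eq_one_left h, inv_eq_of_mul_eq_one_right (sq_of_ord T.hb)])

theorem four_inv {v : G} (hv : v = a ∨ v = b ∨ v = a * b) : orderOf v = 2 ∧ v ∈ E₀ := by
  rcases hv with rfl | rfl | rfl
  · exact ⟨T.ha, T.amem⟩
  · exact ⟨T.hb, T.bmem⟩
  · refine ⟨orderOf_eq_prime ?_ (K.ab_ne T), mul_mem T.amem T.bmem⟩
    have hc : Commute a b := T.comm
    rw [hc.mul_pow, pow_two, pow_two, sq_of_ord T.ha, sq_of_ord T.hb, mul_one]

/-- Some power of `r` carries a given involution of the four-group to `a`. -/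
theorem cycle {v : G} (hv : v = a ∨ v = b ∨ v = a * b) :
    ∃ d ∈ E₀, d * v * d⁻¹ = a := by
  rcases hv with rfl | rfl | rfl
  · exact ⟨1, one_mem _, by simp⟩
  · exact ⟨r, T.rmem, T.cb⟩
  · refine ⟨r * r, mul_mem T.rmem T.rmem, ?_⟩
    rw [show r * r * (a * b) * (r * r)⁻¹ = r * (r * (a * b) * r⁻¹) * r⁻¹ by group, K.r_ab T, T.cb]

/-- The key local step. -/
theorem kill {X : Subgroup G} (hXt : ∀ x ∈ X, x * t = t * x) (hXo : Odd (Nat.card X))
    (hinv : ∀ x ∈ X, a * x * a⁻¹ = x⁻¹)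
    (hn : ∀ c : G, c * t = t * c → c * a = a * c → ∀ x ∈ X, c * x * c⁻¹ ∈ X) : X = ⊥ := by
  by_contra hne
  have hord : ∀ x ∈ X, Odd (orderOf x) := fun x hx => by
    rw [← Subgroup.orderOf_mk x hx]
    exact hXo.of_dvd_nat (orderOf_dvd_natCard _)
  have h1 : ∀ x ∈ X, x * x = 1 → x = 1 := fun x hx h => RankOne.Involution.eq_one_of_sq hXo hx h
  have hX₀ : ∀ x ∈ X, x ∈ E₀ := by
    intro x hx
    have hxE := K.odd_mem (hXt x hx) (hord x hx)
    have h2 : x * x = x * a * x⁻¹ * a⁻¹ := by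
      rw [show x * a * x⁻¹ * a⁻¹ = x * (a * x * a⁻¹)⁻¹ by group, hinv x hx, inv_inv]
    have h3 : x * x ∈ E₀ := h2 ▸ E₀.mul_mem (K.conj₀ x hxE a T.amem) (E₀.inv_mem T.amem)
    obtain ⟨n, hn⟩ := hord x hx
    have h4 : x = (x * x) ^ (n + 1) := by
      rw [← pow_two, ← pow_mul, show 2 * (n + 1) = orderOf x + 1 by omega, pow_succ,
        pow_orderOf_eq_one, one_mul]
    rw [h4]
    exact E₀.pow_mem h3 _
  have hXc : ∀ x ∈ X, ∀ y ∈ X, x * y = y * x := by
    intro x hx y hy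
    have h := hinv (x * y) (mul_mem hx hy)
    rw [show a * (x * y) * a⁻¹ = (a * x * a⁻¹) * (a * y * a⁻¹) by group, hinv x hx, hinv y hy,
      ← mul_inv_rev, inv_inj] at h
    exact h.symm
  have hat := K.mem_cent a (K.le T.amem)
  have hbt := K.mem_cent b (K.le T.bmem)
  -- an involution of the four-group fixing a nontrivial element
  obtain ⟨v, hv, z, hz, hz1, hvz⟩ : ∃ v : G, (v = b ∨ v = a * b) ∧ ∃ z ∈ X, z ≠ 1 ∧
      v * z * v⁻¹ = z := by
    by_contra hno
    push Not at hno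
    refine hne (le_bot_iff.1 (RankOne.Involution.le_of_four_group hXo (sq_of_ord T.ha)
      (sq_of_ord T.hb) T.comm (fun x hx => hn a hat rfl x hx)
      (fun x hx => hn b hbt T.comm.symm x hx) ?_ ?_ ?_))
    · intro x hx hfix
      rw [hinv x hx] at hfix
      exact mem_bot.2 (h1 x hx (inv_eq_iff_mul_eq_one.1 hfix))
    · intro x hx hfix
      by_contra hx1
      exact hno b (Or.inl rfl) x hx (fun h => hx1 (mem_bot.2 h)) hfix
    · intro x hx hfix
      by_contra hx1
      exact hno (a * b) (Or.inr rfl) x hx (fun h => hx1 (mem_bot.2 h)) hfix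
  obtain ⟨hvo, hvE⟩ := K.four_inv T (hv.elim (fun h => Or.inr (Or.inl h)) fun h => Or.inr (Or.inr h))
  have hvz' : v * z = z * v := mul_inv_eq_iff_eq_mul.1 hvz
  have hvX : ∀ x ∈ X, v * x = x * v := fun x hx =>
    (T.oddCent z (hX₀ z hz) (hord z hz) hz1 v hvE x (hX₀ x hx) hvz' (hXc x hx z hz)).1
  have hCa : ∀ c ∈ E₀, c * a = a * c → c * v = v * c := by
    intro c hc hca
    have hci : c⁻¹ * a = a * c⁻¹ := (show Commute c a from hca).inv_left.eq
    have hcit : c⁻¹ * t = t * c⁻¹ := (show Commute c t from K.mem_cent c (K.le hc)).inv_left.eq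
    have hz' : c⁻¹ * z * c ∈ X := by simpa using hn c⁻¹ hcit hci z hz
    have h2 : c * v * c⁻¹ * z = z * (c * v * c⁻¹) := by
      calc c * v * c⁻¹ * z = c * (v * (c⁻¹ * z * c)) * c⁻¹ := by group
        _ = c * ((c⁻¹ * z * c) * v) * c⁻¹ := by rw [hvX _ hz']
        _ = z * (c * v * c⁻¹) := by group
    have hu : orderOf (c * v * c⁻¹) = 2 := (orderOf_conj_eq c v).trans hvo
    have h3 := (T.oddCent z (hX₀ z hz) (hord z hz) hz1 _
      (mul_mem (mul_mem hc hvE) (inv_mem hc)) v hvE h2 hvz').2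
      (sq_of_ord hu) (sq_of_ord hvo) (ne_one_of_ord hu) (ne_one_of_ord hvo)
    exact mul_inv_eq_iff_eq_mul.1 h3
  have hVa : ∀ c ∈ E₀, c * a = a * c → c = 1 ∨ c = a ∨ c = b ∨ c = a * b := by
    intro c hc hca
    refine T.cent₀ c hc hca ?_
    rcases hv with rfl | rfl
    · exact hCa c hc hca
    · have h := hCa c hc hca
      rw [← mul_assoc, hca, mul_assoc, mul_assoc] at h
      exact mul_left_cancel h
  -- move `z` into the centraliser of `a`
  obtain ⟨d, hd, hdv⟩ := K.cycle T (v := v) (hv.elim (fun h => Or.inr (Or.inl h)) fun h => Or.inr (Or.inr h))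
  have hdz : d * z * d⁻¹ * a = a * (d * z * d⁻¹) := by
    rw [← hdv]
    calc d * z * d⁻¹ * (d * v * d⁻¹) = d * (z * v) * d⁻¹ := by group
      _ = d * (v * z) * d⁻¹ := by rw [hvz']
      _ = d * v * d⁻¹ * (d * z * d⁻¹) := by group
  have hsq : d * z * d⁻¹ * (d * z * d⁻¹) = 1 := by
    rcases hVa _ (mul_mem (mul_mem hd (hX₀ z hz)) (inv_mem hd)) hdz with h | h | h | h
    · rw [h, one_mul]
    · rw [h, sq_of_ord T.ha]
    · rw [h, sq_of_ord T.hb]
    · rw [h, sq_of_ord (K.four_inv T (Or.inr (Or.inr rfl))).1]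
  refine hz1 (h1 z hz ?_)
  calc z * z = d⁻¹ * (d * z * d⁻¹ * (d * z * d⁻¹)) * d := by group
    _ = 1 := by rw [hsq]; group

/-- The fusion of `t` in an overgroup of its centraliser. -/
theorem isolated_or_transitive (P : Sylow 2 G) (hP : ∀ p : G, p ∈ (P : Subgroup G) ↔
      ∃ v : G, (v = 1 ∨ v = a ∨ v = b ∨ v = a * b) ∧ (p = v ∨ p = t * v))
    (M : Subgroup G) (hM : ∀ c : G, c * t = t * c → c ∈ M) :
    (∀ m ∈ M, m * t * m⁻¹ ∈ (P : Subgroup G) → m * t * m⁻¹ = t) ∨
      ∀ u ∈ (P : Subgroup G), u ≠ 1 → ∃ m ∈ M, m * t * m⁻¹ = u := by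
  classical
  haveI : Fact (Nat.Prime 2) := ⟨Nat.prime_two⟩
  have htP : t ∈ (P : Subgroup G) := (hP t).2 ⟨1, Or.inl rfl, Or.inr (mul_one t).symm⟩
  have hPt : ∀ p ∈ (P : Subgroup G), p * t = t * p := fun p hp =>
    pgroup_comm K.sylow P.isPGroup' hp htP
  have hPM : (P : Subgroup G) ≤ M := fun p hp => hM p (hPt p hp)
  have hat := K.mem_cent a (K.le T.amem)
  have hbt := K.mem_cent b (K.le T.bmem)
  set N' : Subgroup G := M ⊓ Subgroup.normalizer ((P : Subgroup G) : Set G) with hN'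
  letI : MulAction N' G := MulAction.compHom G ((MulAut.conj : G →* MulAut G).comp N'.subtype)
  have hsmul : ∀ (n : N') (x : G), n • x = (n : G) * x * (n : G)⁻¹ := fun n x => rfl
  set O : Set G := MulAction.orbit N' t with hO
  have hOP : ∀ u ∈ O, u ∈ (P : Subgroup G) ∧ u ≠ 1 := by
    rintro u ⟨n, rfl⟩
    simp only [hsmul]
    exact ⟨(mem_normalizer_iff.1 n.2.2 t).1 htP, fun h => ne_one_of_ord K.ord (conj_eq_one_iff.1 h)⟩
  have hburn : ∀ m ∈ M, m * t * m⁻¹ ∈ (P : Subgroup G) → m * t * m⁻¹ ∈ O := by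
    intro m hm hu
    haveI : IsMulCommutative (↑(P.subtype hPM) : Subgroup M) :=
      ⟨⟨fun x y => Subtype.ext (Subtype.ext
        (pgroup_comm K.sylow P.isPGroup' ((mem_subtype_iff hPM).1 x.2) ((mem_subtype_iff hPM).1 y.2)))⟩⟩
    obtain ⟨n, hn, he⟩ := (P.subtype hPM).conj_eq_normalizer_conj_of_mem (⟨t, hPM htP⟩ : M)
      (⟨m, hm⟩⁻¹) ((mem_subtype_iff hPM).2 htP) ((mem_subtype_iff hPM).2 (by simpa using hu))
    refine ⟨⟨((n : M) : G)⁻¹, mem_inf.2 ⟨M.inv_mem n.2, Subgroup.inv_mem _ (mem_normalizer_iff.2 fun y => ?_)⟩⟩, ?_⟩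
    · constructor <;> intro hy
      · exact (mem_subtype_iff hPM).1 ((mem_normalizer_iff.1 hn ⟨y, hPM hy⟩).1 ((mem_subtype_iff hPM).2 hy))
      · have hyM : y ∈ M := by
          have := M.mul_mem (M.mul_mem (M.inv_mem n.2) (hPM hy)) n.2
          simpa [mul_assoc] using this
        exact (mem_subtype_iff hPM).1 ((mem_normalizer_iff.1 hn ⟨y, hyM⟩).2 ((mem_subtype_iff hPM).2 hy))
    · have := congrArg Subtype.val he
      simp at this
      show ((n : M) : G)⁻¹ * t * (((n : M) : G)⁻¹)⁻¹ = m * t * m⁻¹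
      simpa using this.symm
  have hrP : r ∈ Subgroup.normalizer ((P : Subgroup G) : Set G) := by
    refine mem_normalizer_iff.2 fun y => ?_
    have hrv : ∀ v, (v = 1 ∨ v = a ∨ v = b ∨ v = a * b) →
        (r * v * r⁻¹ = 1 ∨ r * v * r⁻¹ = a ∨ r * v * r⁻¹ = b ∨ r * v * r⁻¹ = a * b) := by
      rintro v (rfl | rfl | rfl | rfl)
      · simp
      · exact Or.inr (Or.inr (Or.inr T.ca))
      · exact Or.inr (Or.inl T.cb)
      · exact Or.inr (Or.inr (Or.inl (K.r_ab T)))
    have htr : ∀ v, r * (t * v) * r⁻¹ = t * (r * v * r⁻¹) := fun v => by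
      rw [← mul_assoc, K.r_t T]; group
    have hfwd : ∀ y ∈ (P : Subgroup G), r * y * r⁻¹ ∈ (P : Subgroup G) := by
      intro y hy
      obtain ⟨v, hv, rfl | rfl⟩ := (hP _).1 hy
      · exact (hP _).2 ⟨_, hrv _ hv, Or.inl rfl⟩
      · exact (hP _).2 ⟨_, hrv _ hv, Or.inr (htr _)⟩
    refine ⟨hfwd y, fun hy => ?_⟩
    obtain ⟨⟨z, hz⟩, he⟩ := (Finite.injective_iff_surjective
      (f := fun z : (P : Subgroup G) => (⟨_, hfwd z z.2⟩ : (P : Subgroup G)))).1
      (fun z z' h => Subtype.ext (by simpa using congrArg Subtype.val h)) ⟨_, hy⟩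
    have h0 : z = y := by simpa using congrArg Subtype.val he
    exact h0 ▸ hz
  have hrO : ∀ u ∈ O, r * u * r⁻¹ ∈ O := by
    intro u hu
    have := MulAction.mem_orbit_of_mem_orbit (⟨r, hM r (K.r_t T), hrP⟩ : N') hu
    rwa [hsmul] at this
  have htO : t ∈ O := MulAction.mem_orbit_self t
  have hodd : ¬ 2 ∣ O.ncard := by
    rw [hO, ← MulAction.index_stabilizer]
    intro h2
    have hle : (P : Subgroup G).subgroupOf N' ≤ MulAction.stabilizer N' t := fun n hn => by
      rw [MulAction.mem_stabilizer_iff, hsmul, hPt (n : G) (mem_subgroupOf.1 hn), mul_inv_cancel_right]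
    have hPN : (P : Subgroup G) ≤ N' := le_inf hPM le_normalizer
    have h3 : ((P : Subgroup G).subgroupOf N').index ∣ (P : Subgroup G).index :=
      ⟨N'.index, (relIndex_mul_index hPN).symm⟩
    exact P.not_dvd_index ((h2.trans (index_dvd_of_le hle)).trans h3)
  -- the two cycles
  have hcycE : a ∈ O ∨ b ∈ O ∨ a * b ∈ O → a ∈ O ∧ b ∈ O ∧ a * b ∈ O := by
    have h1 : a ∈ O → a * b ∈ O := fun h => T.ca ▸ hrO a h
    have h2 : a * b ∈ O → b ∈ O := fun h => K.r_ab T ▸ hrO _ h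
    have h3 : b ∈ O → a ∈ O := fun h => T.cb ▸ hrO b h
    rintro (h | h | h)
    · exact ⟨h, h2 (h1 h), h1 h⟩
    · exact ⟨h3 h, h, h1 (h3 h)⟩
    · exact ⟨h3 (h2 h), h2 h, h⟩
  have hcycT : t * a ∈ O ∨ t * b ∈ O ∨ t * (a * b) ∈ O →
      t * a ∈ O ∧ t * b ∈ O ∧ t * (a * b) ∈ O := by
    have htr : ∀ v, r * (t * v) * r⁻¹ = t * (r * v * r⁻¹) := fun v => by
      rw [← mul_assoc, K.r_t T]; group
    have h1 : t * a ∈ O → t * (a * b) ∈ O := fun h => by
      have := hrO _ h; rwa [htr, T.ca] at this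
    have h2 : t * (a * b) ∈ O → t * b ∈ O := fun h => by
      have := hrO _ h; rwa [htr, K.r_ab T] at this
    have h3 : t * b ∈ O → t * a ∈ O := fun h => by
      have := hrO _ h; rwa [htr, T.cb] at this
    rintro (h | h | h)
    · exact ⟨h, h2 (h1 h), h1 h⟩
    · exact ⟨h3 h, h, h1 (h3 h)⟩
    · exact ⟨h3 (h2 h), h2 h, h⟩
  have hdist : a * b ≠ a ∧ a * b ≠ b := ⟨fun h => ne_one_of_ord T.hb (mul_eq_left.1 h),
    fun h => ne_one_of_ord T.ha (mul_eq_right.1 h)⟩
  by_cases hA : a ∈ O <;> by_cases hB : t * a ∈ O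
  · obtain ⟨-, hb, hab⟩ := hcycE (Or.inl hA)
    obtain ⟨-, htb, htab⟩ := hcycT (Or.inl hB)
    refine Or.inr fun u hu hu1 => ?_
    have hmem : u ∈ O := by
      obtain ⟨v, hv, hu'⟩ := (hP u).1 hu
      rcases hu' with rfl | rfl
      · rcases hv with rfl | rfl | rfl | rfl
        exacts [absurd rfl hu1, hA, hb, hab]
      · rcases hv with rfl | rfl | rfl | rfl
        exacts [by rwa [mul_one], hB, htb, htab]
    obtain ⟨n, hn⟩ := hmem
    exact ⟨n, n.2.1, hn⟩
  · exfalso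
    obtain ⟨-, hb, hab⟩ := hcycE (Or.inl hA)
    have hOeq : O = {t, a, b, a * b} := by
      refine Set.Subset.antisymm (fun u hu => ?_) ?_
      · obtain ⟨v, hv, hu'⟩ := (hP u).1 (hOP u hu).1
        rcases hu' with rfl | rfl
        · rcases hv with rfl | rfl | rfl | rfl
          exacts [absurd rfl (hOP _ hu).2, by simp, by simp, by simp]
        · rcases hv with rfl | rfl | rfl | rfl
          exacts [by simp, absurd hu hB, absurd (hcycT (Or.inr (Or.inl hu))).1 hB,
            absurd (hcycT (Or.inr (Or.inr hu))).1 hB]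
      · rintro u (rfl | rfl | rfl | rfl) <;> assumption
    apply hodd
    have hta : t ≠ a := fun h => K.not_mem (h ▸ K.le T.amem)
    have htb : t ≠ b := fun h => K.not_mem (h ▸ K.le T.bmem)
    have htab : t ≠ a * b := fun h => K.not_mem (h ▸ K.le (mul_mem T.amem T.bmem))
    rw [hOeq, Set.ncard_insert_of_notMem (by simp [hta, htb, htab]),
      Set.ncard_insert_of_notMem (by simp [T.ne, hdist.1.symm]), Set.ncard_pair hdist.2.symm]
    norm_num
  · exfalso
    obtain ⟨-, htb, htab⟩ := hcycT (Or.inl hB)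
    have hOeq : O = {t, t * a, t * b, t * (a * b)} := by
      refine Set.Subset.antisymm (fun u hu => ?_) ?_
      · obtain ⟨v, hv, hu'⟩ := (hP u).1 (hOP u hu).1
        rcases hu' with rfl | rfl
        · rcases hv with rfl | rfl | rfl | rfl
          exacts [absurd rfl (hOP _ hu).2, absurd hu hA, absurd (hcycE (Or.inr (Or.inl hu))).1 hA,
            absurd (hcycE (Or.inr (Or.inr hu))).1 hA]
        · rcases hv with rfl | rfl | rfl | rfl <;> simp
      · rintro u (rfl | rfl | rfl | rfl) <;> assumption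
    apply hodd
    have h' : ∀ v, v ≠ 1 → t ≠ t * v := fun v hv h => hv (mul_eq_left.1 h.symm)
    rw [hOeq, Set.ncard_insert_of_notMem (by simp [ne_one_of_ord T.ha, ne_one_of_ord T.hb, K.ab_ne T]),
      Set.ncard_insert_of_notMem (by simp [T.ne, ne_one_of_ord T.hb]),
      Set.ncard_pair (fun h => hdist.2 (mul_left_cancel h).symm)]
    norm_num
  · refine Or.inl fun m hm hu => ?_
    have hO' := hburn m hm hu
    obtain ⟨v, hv, hu'⟩ := (hP _).1 hu
    rcases hu' with h | h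
    · rw [h] at hO'
      rcases hv with rfl | rfl | rfl | rfl
      exacts [absurd rfl (hOP _ hO').2, absurd hO' hA, absurd (hcycE (Or.inr (Or.inl hO'))).1 hA,
        absurd (hcycE (Or.inr (Or.inr hO'))).1 hA]
    · rw [h] at hO'
      rcases hv with rfl | rfl | rfl | rfl
      exacts [h.trans (mul_one t), absurd hO' hB, absurd (hcycT (Or.inr (Or.inl hO'))).1 hB,
        absurd (hcycT (Or.inr (Or.inr hO'))).1 hB]

/-- An isolated conjugate class in `P` gives isolation. -/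
theorem isolated_of {P : Sylow 2 G} (htP : t ∈ (P : Subgroup G)) {M : Subgroup G}
    (hM : ∀ c : G, c * t = t * c → c ∈ M)
    (h : ∀ m ∈ M, m * t * m⁻¹ ∈ (P : Subgroup G) → m * t * m⁻¹ = t) :
    Cfsg.IsIsolatedInvolution (⟨t, hM t rfl⟩ : M) := by
  haveI : Fact (Nat.Prime 2) := ⟨Nat.prime_two⟩
  refine ⟨by rw [← Subgroup.orderOf_coe]; exact K.ord, fun m hm => Subtype.ext ?_⟩
  set e : G := (m : G) * t * (m : G)⁻¹ with he
  have hte : t * e = e * t := congrArg Subtype.val hm.eq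
  obtain ⟨c, hct, hcP⟩ := exists_conj_mem (P := P) K.sylow htP (sq_of_ord K.ord)
    (sq_of_ord ((orderOf_conj_eq (m : G) t).trans K.ord)) hte
  have hmc : c * (m : G) ∈ M := M.mul_mem (hM c hct) m.2
  have heq : (c * (m : G)) * t * (c * (m : G))⁻¹ = c * e * c⁻¹ := by rw [he]; group
  have h3 := (h _ hmc (heq ▸ hcP))
  rw [heq, mul_inv_eq_iff_eq_mul, ← hct] at h3
  show e = t
  exact mul_left_cancel h3

/-- An overgroup in which every involution of `P` is fused to `t` is not proper. -/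
theorem not_transitive [IsSimpleGroup G] (hS : BenderOne.PropSplit.{u}) (P : Sylow 2 G)
    (hP : ∀ p : G, p ∈ (P : Subgroup G) ↔
      ∃ v : G, (v = 1 ∨ v = a ∨ v = b ∨ v = a * b) ∧ (p = v ∨ p = t * v))
    (M : Subgroup G) (hMtop : M ≠ ⊤) (hM : ∀ c : G, c * t = t * c → c ∈ M)
    (htr : ∀ u ∈ (P : Subgroup G), u ≠ 1 → ∃ m ∈ M, m * t * m⁻¹ = u) : False := by
  classical
  haveI : Fact (Nat.Prime 2) := ⟨Nat.prime_two⟩
  have htP : t ∈ (P : Subgroup G) := (hP t).2 ⟨1, Or.inl rfl, Or.inr (mul_one t).symm⟩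
  have haP : a ∈ (P : Subgroup G) := (hP a).2 ⟨a, Or.inr (Or.inl rfl), Or.inl rfl⟩
  have hPM : (P : Subgroup G) ≤ M := fun p hp => hM p (pgroup_comm K.sylow P.isPGroup' hp htP)
  have hconj : ∀ u ∈ M, orderOf u = 2 → ∃ m ∈ M, m * t * m⁻¹ = u := by
    intro u hu hu2
    have hpg : IsPGroup 2 (Subgroup.zpowers (⟨u, hu⟩ : M)) :=
      IsPGroup.of_card (n := 1) (by rw [Nat.card_zpowers, ← Subgroup.orderOf_coe, pow_one]; exact hu2)
    obtain ⟨R, hR⟩ := hpg.exists_le_sylow
    obtain ⟨c, hc⟩ := MulAction.exists_smul_eq M R (P.subtype hPM)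
    have hmem : (c : G) * u * (c : G)⁻¹ ∈ (P : Subgroup G) := by
      have h1 : c * ⟨u, hu⟩ * c⁻¹ ∈ (↑(P.subtype hPM) : Subgroup M) := by
        rw [← hc, Sylow.coe_subgroup_smul]
        exact ⟨⟨u, hu⟩, hR (Subgroup.mem_zpowers _), rfl⟩
      simpa using (mem_subtype_iff hPM).1 h1
    obtain ⟨m, hm, hme⟩ := htr _ hmem (fun h => ne_one_of_ord hu2 (conj_eq_one_iff.1 h))
    refine ⟨(c : G)⁻¹ * m, M.mul_mem (M.inv_mem c.2) hm, ?_⟩
    rw [show (c : G)⁻¹ * m * t * ((c : G)⁻¹ * m)⁻¹ = (c : G)⁻¹ * (m * t * m⁻¹) * c by group, hme]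
    group
  have heven : Even (Nat.card M) := by
    rw [even_iff_two_dvd, ← K.ord, ← Subgroup.orderOf_mk t (hPM htP)]
    exact orderOf_dvd_natCard _
  have hSE : Cfsg.IsStronglyEmbedded M := by
    refine (isStronglyEmbedded_iff_fusion hMtop heven).2 ⟨fun u hu hu2 c hc => ?_,
      fun u hu w hw hu2 hw2 _ => ?_⟩
    · obtain ⟨m, hm, rfl⟩ := hconj u hu hu2
      rw [mem_centralizer_singleton_iff] at hc
      have h1 : m⁻¹ * c * m ∈ M := hM _ (by
        calc m⁻¹ * c * m * t = m⁻¹ * (c * (m * t * m⁻¹)) * m := by group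
          _ = m⁻¹ * ((m * t * m⁻¹) * c) * m := by rw [hc]
          _ = t * (m⁻¹ * c * m) := by group)
      have := M.mul_mem (M.mul_mem hm h1) (M.inv_mem hm)
      simpa [mul_assoc] using this
    · obtain ⟨m, hm, rfl⟩ := hconj u hu hu2
      obtain ⟨n, hn, rfl⟩ := hconj w hw hw2
      exact ⟨n * m⁻¹, M.mul_mem hn (M.inv_mem hm), by group⟩
  have hta : t ≠ a := fun h => K.not_mem (h ▸ K.le T.amem)
  have hfour : BenderOne20.HasFour M :=
    ⟨t, hPM htP, a, hPM haP, K.ord, T.ha, hta, pgroup_comm K.sylow P.isPGroup' htP haP⟩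
  have hcore : M.normalCore = ⊥ := (Subgroup.Normal.eq_bot_or_eq_top M.normalCore_normal).resolve_right
    fun h => hMtop (top_le_iff.1 (h ▸ M.normalCore_le))
  obtain ⟨Q, hQ, hR⟩ := hS G M hSE hfour hcore
  have hPsq : ∀ p ∈ (P : Subgroup G), p * p = 1 := by
    intro p hp
    by_cases hp1 : p = 1
    · rw [hp1, one_mul]
    · obtain ⟨m, -, rfl⟩ := htr p hp hp1
      rw [show m * t * m⁻¹ * (m * t * m⁻¹) = m * (t * t) * m⁻¹ by group, sq_of_ord K.ord]
      group
  have hPQ : (P : Subgroup G) ≤ Q := fun p hp => by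
    by_cases hp1 : p = 1
    · rw [hp1]; exact one_mem _
    · exact BenderOne.mem_of_invol hSE hQ hR (hPM hp)
        (orderOf_eq_prime (by rw [pow_two]; exact hPsq p hp) hp1)
  have hQP : Q = (P : Subgroup G) := P.is_maximal' hQ hPQ
  subst hQP
  obtain ⟨s, hs, hsM⟩ := BenderOne.exists_invol_not_mem hSE
  have hH := BenderOne.hyp hSE hfour hcore hR hs hsM
  obtain ⟨-, L, hLn, -, hPL, -, hcase⟩ := BenderSuzuki.propMain G (G ⧸ M) _ s _ hH
  have hLtop : L = ⊤ := (Subgroup.Normal.eq_bot_or_eq_top hLn).resolve_left fun h => by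
    rw [h] at hPL
    exact ne_one_of_ord K.ord (mem_bot.1 (hPL htP))
  have hst : MulAction.stabilizer G ((1 : G) : G ⧸ M) = M := MulAction.stabilizer_quotient M
  have hq : BenderSuzuki.qNum G ((1 : G) : G ⧸ M) = Nat.card (P : Subgroup G) := by
    have hset : BenderSuzuki.invs G ((1 : G) : G ⧸ M) = ((P : Subgroup G) : Set G) \ {1} := by
      ext x
      simp only [BenderSuzuki.invs, Cfsg.involutionsIn, hst, Set.mem_setOf_eq, Set.mem_diff,
        SetLike.mem_coe, Set.mem_singleton_iff]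
      refine ⟨fun ⟨hx, hx1, hxx⟩ => ⟨BenderOne.mem_of_invol hSE hQ hR hx
        (orderOf_eq_prime (by rw [pow_two]; exact hxx) hx1), hx1⟩,
        fun ⟨hx, hx1⟩ => ⟨hPM hx, hx1, hPsq x hx⟩⟩
    rw [BenderSuzuki.qNum, hset, Nat.card_coe_set_eq,
      Set.ncard_diff_singleton_add_one (one_mem (P : Subgroup G)) (Set.toFinite _)]
    exact Nat.card_coe_set_eq _ |>.symm
  have hbig : 2 ≤ Nat.card (P : Subgroup G) := by
    have h : Nat.card (Subgroup.zpowers t) ≤ Nat.card (P : Subgroup G) :=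
      Nat.le_of_dvd Nat.card_pos (card_dvd_of_le (zpowers_le.2 htP))
    rwa [Nat.card_zpowers, K.ord] at h
  rcases hcase with ⟨-, hD, -⟩ | ⟨hc, -⟩ | ⟨hc, -⟩
  · rw [hLtop, top_inf_eq] at hD
    set D : Subgroup G := RankOne.Basic.twoStab G ((1 : G) : G ⧸ M) s with hDdef
    have hDc : ∀ x ∈ D, ∀ y ∈ D, x * y = y * x := by
      have hinv : ∀ x ∈ D, s * x * s⁻¹ = x⁻¹ := fun x hx => by
        have : x ∈ (D : Set G) := hx
        rw [hD] at this
        exact this.2
      intro x hx y hy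
      have h := hinv (x * y) (mul_mem hx hy)
      rw [show s * (x * y) * s⁻¹ = (s * x * s⁻¹) * (s * y * s⁻¹) by group, hinv x hx, hinv y hy,
        ← mul_inv_rev, inv_inj] at h
      exact h.symm
    have hDM : D ≤ M := fun x hx => hst ▸ hx.1
    have hDn : D ≤ Subgroup.normalizer ((P : Subgroup G) : Set G) := fun d hd =>
      mem_normalizer_iff.2 fun x => ⟨fun hx => hR.conj_mem d (hDM hd) x hx, fun hx => by
        simpa [mul_assoc] using hR.conj_mem d⁻¹ (M.inv_mem (hDM hd)) _ hx⟩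
    have hact : ∀ m ∈ M, ∃ d ∈ D, ∀ p ∈ (P : Subgroup G), m * p * m⁻¹ = d * p * d⁻¹ := by
      intro m hm
      have hsup : (P : Subgroup G) ⊔ D = MulAction.stabilizer G ((1 : G) : G ⧸ M) := hH.setup.sup_eq
      have hm' : m ∈ (((P : Subgroup G) ⊔ D : Subgroup G) : Set G) := by
        rw [hsup, hst]; exact hm
      rw [Subgroup.coe_mul_of_right_le_normalizer_left _ _ hDn] at hm'
      obtain ⟨q, hq', d, hd, rfl⟩ := hm'
      refine ⟨d, hd, fun p hp => ?_⟩
      have hdp : d * p * d⁻¹ ∈ (P : Subgroup G) := hR.conj_mem d (hDM hd) p hp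
      rw [show q * d * p * (q * d)⁻¹ = q * (d * p * d⁻¹) * q⁻¹ by group,
        pgroup_comm K.sylow P.isPGroup' hq' hdp, mul_inv_cancel_right]
    obtain ⟨m, hm, hma⟩ := htr a haP (ne_one_of_ord T.ha)
    obtain ⟨d, hd, hda⟩ := hact m hm
    obtain ⟨d', hd', hd'a⟩ := hact r (hM r (K.r_t T))
    have h1 : d * t * d⁻¹ = a := (hda t htP).symm.trans hma
    have h2 : d' * t * d'⁻¹ = t := by rw [← hd'a t htP, K.r_t T, mul_inv_cancel_right]
    have h3 : a * b = a := by
      calc a * b = r * a * r⁻¹ := T.ca.symm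
        _ = d' * (d * t * d⁻¹) * d'⁻¹ := by rw [hd'a a haP, h1]
        _ = (d' * d) * t * (d' * d)⁻¹ := by group
        _ = (d * d') * t * (d * d')⁻¹ := by rw [hDc d' hd' d hd]
        _ = d * (d' * t * d'⁻¹) * d⁻¹ := by group
        _ = a := by rw [h2, h1]
    exact ne_one_of_ord T.hb (mul_eq_left.1 h3)
  · rw [hq, pow_two] at hc
    nlinarith
  · rw [hq] at hc
    have : Nat.card (P : Subgroup G) * 2 ≤ Nat.card (P : Subgroup G) ^ 3 := by
      rw [pow_succ]
      exact Nat.mul_le_mul (Nat.le_self_pow two_ne_zero _) hbig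
    omega

/-- The centralizer is maximal. -/
theorem eq_top_of_lt [IsSimpleGroup G] (hS : BenderOne.PropSplit.{u})
    (hna : ¬ IsMulCommutative G) (M : Subgroup G) (hlt : Subgroup.centralizer ({t} : Set G) < M) :
    M = ⊤ := by
  classical
  by_contra hMtop
  haveI : Fact (Nat.Prime 2) := ⟨Nat.prime_two⟩
  have hM : ∀ c : G, c * t = t * c → c ∈ M := fun c hc =>
    hlt.le (mem_centralizer_singleton_iff.2 hc)
  obtain ⟨P, hP⟩ := K.exists_sylow T
  have htP : t ∈ (P : Subgroup G) := (hP t).2 ⟨1, Or.inl rfl, Or.inr (mul_one t).symm⟩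
  rcases K.isolated_or_transitive T P hP M hM with hiso | htr
  swap
  · exact K.not_transitive T hS P hP M hMtop hM htr
  -- global fusion
  have hglob : ∀ u ∈ (P : Subgroup G), u ≠ 1 → ∃ g : G, g * t * g⁻¹ = u := by
    rcases K.isolated_or_transitive T P hP ⊤ (fun _ _ => mem_top _) with h | h
    · exfalso
      have hI := K.isolated_of T htP (fun _ _ => mem_top _) h
      have hmem : ∀ g : G, t * g * t⁻¹ * g⁻¹ = 1 := by
        intro g
        have h' := ZStar.Consequences.isolated_commutator_mem ZStar.StronglyClosed.involutionThm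
          hI ⟨g, mem_top _⟩
        have hbot : Cfsg.oddCore ↥(⊤ : Subgroup G) = ⊥ := by
          haveI : IsSimpleGroup ↥(⊤ : Subgroup G) := Subgroup.topEquiv.isSimpleGroup
          refine (Subgroup.Normal.eq_bot_or_eq_top inferInstance).resolve_right fun htop => ?_
          have hodd := ZStar.Elements.oddCore_odd (G := ↥(⊤ : Subgroup G))
          rw [htop, Subgroup.card_top] at hodd
          exact Nat.not_even_iff_odd.2 hodd (even_iff_two_dvd.2 (hI.1 ▸ orderOf_dvd_natCard _))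
        rw [hbot, mem_bot] at h'
        simpa using congrArg Subtype.val h'
      have hz : t ∈ Subgroup.center G := mem_center_iff.2 fun g => by
        have := hmem g
        rw [mul_inv_eq_one, mul_inv_eq_iff_eq_mul] at this
        exact this.symm
      rcases Subgroup.Normal.eq_bot_or_eq_top (inferInstance : (Subgroup.center G).Normal) with hb | hb
      · rw [hb] at hz
        exact ne_one_of_ord K.ord (mem_bot.1 hz)
      · exact hna ⟨⟨fun x y => mem_center_iff.1 (hb ▸ mem_top y) x⟩⟩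
    · intro u hu hu1
      obtain ⟨g, -, hg⟩ := h u hu hu1
      exact ⟨g, hg⟩
  have hI := K.isolated_of T htP hM hiso
  set N := (Cfsg.oddCore M).map M.subtype with hN
  have hNodd : Odd (Nat.card N) :=
    (ZStar.Elements.oddCore_odd (G := M)).of_dvd_nat (card_map_dvd _ _)
  have hNM : N ≤ M := map_subtype_le _
  have hNn : ∀ m ∈ M, ∀ x ∈ N, m * x * m⁻¹ ∈ N := by
    rintro m hm _ ⟨x, hx, rfl⟩
    exact ⟨⟨m, hm⟩ * x * ⟨m, hm⟩⁻¹, (inferInstance : (Cfsg.oddCore M).Normal).conj_mem x hx _, rfl⟩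
  have hcom : ∀ m ∈ M, t * m * t⁻¹ * m⁻¹ ∈ N := fun m hm =>
    ⟨_, ZStar.Consequences.isolated_commutator_mem ZStar.StronglyClosed.involutionThm hI ⟨m, hm⟩, rfl⟩
  have htN : ∀ x ∈ N, x * t = t * x → x = 1 := by
    intro x hx hxt
    have hb := K.no_odd T (X := N ⊓ Subgroup.centralizer ({t} : Set G))
      (fun y hy => mem_centralizer_singleton_iff.1 hy.2)
      (hNodd.of_dvd_nat (card_dvd_of_le inf_le_left)) ?_
    · have : x ∈ N ⊓ Subgroup.centralizer ({t} : Set G) := ⟨hx, mem_centralizer_singleton_iff.2 hxt⟩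
      rwa [hb, mem_bot] at this
    · intro c hc y hy
      refine ⟨hNn c (hM c (K.mem_cent c hc)) y hy.1, ?_⟩
      have h1 : Commute c t := K.mem_cent c hc
      have h2 : Commute y t := mem_centralizer_singleton_iff.1 hy.2
      exact mem_centralizer_singleton_iff.2 ((h1.mul_left h2).mul_left h1.inv_left).eq
  have hinv : ∀ x ∈ N, t * x * t⁻¹ = x⁻¹ := by
    intro x hx
    obtain ⟨c, hc, i, -, hct, hit, rfl⟩ := RankOne.Involution.exists_decomp hNodd (sq_of_ord K.ord)
      (fun y hy => hNn t (hM t rfl) y hy) hx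
    rw [htN c hc (mul_inv_eq_iff_eq_mul.1 hct).symm, one_mul]
    exact hit
  obtain ⟨m0, hm0, hm0'⟩ := SetLike.exists_of_lt hlt
  have hx0 : t * m0 * t⁻¹ * m0⁻¹ ≠ 1 := fun h => hm0' (mem_centralizer_singleton_iff.2 (by
    rw [mul_inv_eq_one, mul_inv_eq_iff_eq_mul] at h; exact h.symm))
  -- a fixed point of the four-group
  obtain ⟨v, hv, z, hz, hz1, hvz⟩ : ∃ v : G, (v = a ∨ v = b ∨ v = a * b) ∧ ∃ z ∈ N, z ≠ 1 ∧
      v * z * v⁻¹ = z := by
    by_contra hno
    push Not at hno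
    refine hx0 (mem_bot.1 (RankOne.Involution.le_of_four_group (M := ⊥) hNodd (sq_of_ord T.ha)
      (sq_of_ord T.hb) T.comm (fun x hx => hNn a (hM a (K.mem_cent a (K.le T.amem))) x hx)
      (fun x hx => hNn b (hM b (K.mem_cent b (K.le T.bmem))) x hx) ?_ ?_ ?_ (hcom m0 hm0)))
    · intro x hx hfix
      by_contra hx1
      exact hno a (Or.inl rfl) x hx (fun h => hx1 (mem_bot.2 h)) hfix
    · intro x hx hfix
      by_contra hx1
      exact hno b (Or.inr (Or.inl rfl)) x hx (fun h => hx1 (mem_bot.2 h)) hfix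
    · intro x hx hfix
      by_contra hx1
      exact hno (a * b) (Or.inr (Or.inr rfl)) x hx (fun h => hx1 (mem_bot.2 h)) hfix
  obtain ⟨hvo, hvE⟩ := K.four_inv T hv
  have hvt : v * t = t * v := K.mem_cent v (K.le hvE)
  have hvP : v ∈ (P : Subgroup G) := (hP v).2 ⟨v, Or.inr hv, Or.inl rfl⟩
  obtain ⟨g, hg⟩ := hglob v hvP (ne_one_of_ord hvo)
  -- normalise the position of the second involution
  set e : G := g⁻¹ * t * g with he
  have het : e * t = t * e := by
    calc g⁻¹ * t * g * t = g⁻¹ * (t * (g * t * g⁻¹)) * g := by group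
      _ = g⁻¹ * ((g * t * g⁻¹) * t) * g := by rw [hg, hvt]
      _ = t * (g⁻¹ * t * g) := by group
  have he2 : orderOf e = 2 := by
    rw [he, show g⁻¹ * t * g = g⁻¹ * t * g⁻¹⁻¹ by rw [inv_inv], orderOf_conj_eq]; exact K.ord
  have hne : e ≠ t := fun h => K.not_mem (by
    have : v = t := by rw [← hg]; nth_rewrite 1 [← h]; rw [he]; group
    exact this ▸ K.le hvE)
  obtain ⟨c, hct, hcP⟩ := exists_conj_mem (P := P) K.sylow htP (sq_of_ord K.ord) (sq_of_ord he2)
    het.symm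
  obtain ⟨v', hv', hce⟩ := (hP _).1 hcP
  have hv'2 : v' = a ∨ v' = b ∨ v' = a * b := by
    refine hv'.resolve_left fun h1 => ?_
    subst h1
    rcases hce with h | h
    · exact ne_one_of_ord he2 (conj_eq_one_iff.1 h)
    · rw [mul_one, mul_inv_eq_iff_eq_mul, ← hct] at h
      exact hne (mul_left_cancel h)
  obtain ⟨d, hd, hda⟩ := K.cycle T hv'2
  have hdt : Commute d t := K.mem_cent d (K.le hd)
  have hdct : Commute (d * c) t := hdt.mul_left hct
  set h : G := g * (d * c)⁻¹ with hh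
  have hv_h : h * t * h⁻¹ = v := by
    rw [hh]
    calc g * (d * c)⁻¹ * t * (g * (d * c)⁻¹)⁻¹ = g * ((d * c)⁻¹ * (t * (d * c))) * g⁻¹ := by group
      _ = g * ((d * c)⁻¹ * ((d * c) * t)) * g⁻¹ := by rw [hdct.eq]
      _ = v := by rw [← hg]; group
  set e' : G := (d * c) * e * (d * c)⁻¹ with he'
  have he'cases : e' = a ∨ e' = t * a := by
    rw [he', show d * c * e * (d * c)⁻¹ = d * (c * e * c⁻¹) * d⁻¹ by group]
    rcases hce with h1 | h1 <;> rw [h1]
    · exact Or.inl hda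
    · refine Or.inr ?_
      rw [← mul_assoc d t, hdt.eq, ← hda]
      group
  have ht_h : h * e' * h⁻¹ = t := by rw [hh, he', he]; group
  set X : Subgroup G := (N ⊓ Subgroup.centralizer ({v} : Set G)).map (MulAut.conj h⁻¹).toMonoidHom
    with hX
  have hXmem : ∀ x, x ∈ X ↔ h * x * h⁻¹ ∈ N ∧ h * x * h⁻¹ * v = v * (h * x * h⁻¹) := by
    intro x
    rw [hX, mem_conj_iff, mem_inf, mem_centralizer_singleton_iff]
    simp only [inv_inv]
  have hXbot : X = ⊥ := by
    refine K.kill T ?_ ?_ ?_ ?_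
    · intro x hx
      have h1 := ((hXmem x).1 hx).2
      rw [← hv_h] at h1
      calc x * t = h⁻¹ * (h * x * h⁻¹ * (h * t * h⁻¹)) * h := by group
        _ = h⁻¹ * (h * t * h⁻¹ * (h * x * h⁻¹)) * h := by rw [h1]
        _ = t * x := by group
    · exact hNodd.of_dvd_nat ((card_map_dvd _ _).trans (card_dvd_of_le inf_le_left))
    · intro x hx
      obtain ⟨h1, h2⟩ := (hXmem x).1 hx
      have h3 := hinv _ h1
      rw [← ht_h] at h3
      have h4 : e' * x * e'⁻¹ = x⁻¹ := by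
        calc e' * x * e'⁻¹ = h⁻¹ * (h * e' * h⁻¹ * (h * x * h⁻¹) * (h * e' * h⁻¹)⁻¹) * h := by group
          _ = x⁻¹ := by rw [h3]; group
      rcases he'cases with h5 | h5 <;> rw [h5] at h4
      · exact h4
      · have hxt : x * t = t * x := by
          rw [← hv_h] at h2
          calc x * t = h⁻¹ * (h * x * h⁻¹ * (h * t * h⁻¹)) * h := by group
            _ = h⁻¹ * (h * t * h⁻¹ * (h * x * h⁻¹)) * h := by rw [h2]
            _ = t * x := by group
        calc a * x * a⁻¹ = t⁻¹ * (t * a * x * (t * a)⁻¹) * t := by group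
          _ = t⁻¹ * (x⁻¹ * t) := by rw [h4]; group
          _ = x⁻¹ := by rw [(show Commute x t from hxt).inv_left.eq, inv_mul_cancel_left]
    · intro y hyt hya x hx
      obtain ⟨h1, h2⟩ := (hXmem x).1 hx
      have hye' : y * e' = e' * y := by
        rcases he'cases with h5 | h5 <;> rw [h5]
        · exact hya
        · rw [← mul_assoc, hyt, mul_assoc, hya, mul_assoc]
      have hmM : h * y * h⁻¹ ∈ M := by
        refine hM _ ?_
        rw [← ht_h]
        calc h * y * h⁻¹ * (h * e' * h⁻¹) = h * (y * e') * h⁻¹ := by group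
          _ = h * (e' * y) * h⁻¹ := by rw [hye']
          _ = h * e' * h⁻¹ * (h * y * h⁻¹) := by group
      have hyv : Commute (h * y * h⁻¹) v := by
        show h * y * h⁻¹ * v = v * (h * y * h⁻¹)
        rw [← hv_h]
        calc h * y * h⁻¹ * (h * t * h⁻¹) = h * (y * t) * h⁻¹ := by group
          _ = h * (t * y) * h⁻¹ := by rw [hyt]
          _ = h * t * h⁻¹ * (h * y * h⁻¹) := by group
      rw [hXmem, show h * (y * x * y⁻¹) * h⁻¹ =
        (h * y * h⁻¹) * (h * x * h⁻¹) * (h * y * h⁻¹)⁻¹ by group]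
      exact ⟨hNn _ hmM _ h1, ((hyv.mul_left (show Commute (h * x * h⁻¹) v from h2)).mul_left
        hyv.inv_left).eq⟩
  have hzX : h⁻¹ * z * h ∈ X := by
    rw [hXmem, show h * (h⁻¹ * z * h) * h⁻¹ = z by group]
    exact ⟨hz, (mul_inv_eq_iff_eq_mul.1 hvz).symm⟩
  rw [hXbot, mem_bot] at hzX
  apply hz1
  calc z = h * (h⁻¹ * z * h) * h⁻¹ := by group
    _ = 1 := by rw [hzX]; group

end Conf

end Cfsg.Agent.Lib.Walter66
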