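import Cfsg.Agent.Lib.Walter66.CentralizerMax
import Cfsg.Prelude.Def_TwoFusion

/-!
# S1245 from Bender's theorem, part I

Owner: helper66.
-/

set_option autoImplicit false

namespace Cfsg.Agent.Lib.Walter66

open Subgroup

universe u

theorem isCoatom_centralizer (hB : BenderOne.PropSplit.{u}) {G : Type u} [Group G] [Finite G]
    [IsSimpleGroup G] (hna : ¬ IsMulCommutative G) (S : Sylow 2 G)
    (hS : IsMulCommutative (S : Subgroup G)) (t : G) (ht : orderOf t = 2) (E E₀ : Subgroup G)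
    (hprod : Cfsg.IsInternalDirectProduct (zpowers t) E (centralizer ({t} : Set G)))
    (hE₀E : E₀ ≤ E) (hE₀n : (E₀.subgroupOf E).Normal)
    (hE₀ : ∃ (F : Type) (_ : Field F) (_ : Fintype F), Odd (Fintype.card F) ∧
      Nonempty (E₀ ≃* Matrix.ProjectiveSpecialLinearGroup (Fin 2) F))
    (hCE : E ⊓ centralizer (E₀ : Set G) = ⊥) :
    IsCoatom (centralizer ({t} : Set G)) := by
  haveI : Fact (Nat.Prime 2) := ⟨Nat.prime_two⟩
  obtain ⟨h1, h2, h3, h4, h5⟩ := hprod
  have hnot : t ∉ E := fun h => ne_one_of_ord ht (mem_bot.1 (h4 ▸ mem_inf.2 ⟨mem_zpowers t, h⟩))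
  have K : Conf t E E₀ := by
    refine ⟨fun P => ?_, ht, fun e he => (h3 t (mem_zpowers t) e he).symm, hnot, ?_, hE₀E, ?_, ?_, hE₀⟩
    · refine ⟨⟨fun x y => (Sylow.equiv P S).injective ?_⟩⟩
      rw [map_mul, map_mul]
      exact hS.1.1 _ _
    · intro c hc
      have hcm : c ∈ zpowers t ⊔ E := h5.symm ▸ mem_centralizer_singleton_iff.2 hc
      have hn : E ≤ normalizer (zpowers t : Set G) := fun e he => by
        refine mem_normalizer_iff.2 fun x => ⟨fun hx => ?_, fun hx => ?_⟩
        · rwa [← h3 x hx e he, mul_inv_cancel_right]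
        · have h := h3 _ hx e he
          have : x = e * x * e⁻¹ := by
            have h' : e⁻¹ * (e * x * e⁻¹ * e) = e⁻¹ * (e * (e * x * e⁻¹)) := by rw [h]
            group at h' ⊢
            exact h'
          rw [this]; exact hx
      have hcm' : c ∈ ((zpowers t ⊔ E : Subgroup G) : Set G) := hcm
      rw [Subgroup.coe_mul_of_right_le_normalizer_left _ _ hn] at hcm'
      obtain ⟨y, hy, e, he, rfl⟩ := hcm'
      refine ⟨e, he, ?_⟩
      obtain ⟨n, rfl⟩ := Submonoid.mem_powers_iff _ _ |>.1 (mem_powers_iff_mem_zpowers.2 hy)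
      rw [← pow_mod_orderOf, ht]
      rcases Nat.mod_two_eq_zero_or_one n with h | h <;> rw [h]
      · exact Or.inl (by simp)
      · exact Or.inr (by simp)
    · intro c hc x hx
      have := hE₀n.conj_mem ⟨x, hE₀E hx⟩ (mem_subgroupOf.2 hx) ⟨c, hc⟩
      simpa using mem_subgroupOf.1 this
    · intro c hc hcent
      have : c ∈ E ⊓ centralizer (E₀ : Set G) :=
        ⟨hc, mem_centralizer_iff.2 fun x hx => (hcent x hx).symm⟩
      rwa [hCE, mem_bot] at this
  refine ⟨fun htop => ?_, fun M hlt => ?_⟩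
  · have hz : t ∈ center G := mem_center_iff.2 fun g =>
      (mem_centralizer_singleton_iff.1 (htop ▸ mem_top g))
    rcases Subgroup.Normal.eq_bot_or_eq_top (inferInstance : (center G).Normal) with hb | hb
    · exact ne_one_of_ord ht (mem_bot.1 (hb ▸ hz))
    · exact hna ⟨⟨fun x y => mem_center_iff.1 (hb ▸ mem_top y) x⟩⟩
  · obtain ⟨a, b, r, T⟩ := K.exists_tri
    exact K.eq_top_of_lt T hB hna M hlt

end Cfsg.Agent.Lib.Walter66
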